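import Cfsg.Agent.CpAutCoFive.Core
import Cfsg.Agent.PreUniqCo.Facts

/-!
# No group of order 25 centralizes an element of order three in the stabilizer of a vector of the Leech lattice

`not_25` (helper647, for S4175) : `H` a group of automorphisms of the Leech lattice fixing a nonzero vector, `x` a central
element of order three : `25` does not divide the order of `H`.
-/

set_option autoImplicit false

namespace Cfsg.Agent.H647.CoThree

open Cfsg Subgroup Module
open Cfsg.Agent.CpAutCoFive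
open Cfsg.Agent.SigZeroCo2.Rank (fix mem_fix)
open Cfsg.Agent.SigZeroCo2.Lin (rep Sp rep_injective)
open Cfsg.Agent.PreUniqCo.FixBound Cfsg.Agent.PreUniqCo.LatCo

/-! ### Linear algebra -/

section

variable {V : Type*} [AddCommGroup V] [Module ℚ V]

theorem nr_inv {u : Module.End ℚ V} {r : ℕ} {W : Submodule ℚ V} (hW : ∀ w ∈ W, u w ∈ W) {w : V} (hw : w ∈ W) :
    nr u r w ∈ W := by
  have hpow : ∀ i, (u ^ i) w ∈ W := by
    intro i
    induction i with
    | zero => exact hw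
    | succ i ih => rw [pow_succ', Module.End.mul_apply]; exact hW _ ih
  unfold nr
  rw [LinearMap.sum_apply]
  exact Submodule.sum_mem _ fun i _ => hpow i

theorem finrank_inf_add [FiniteDimensional ℚ V] {u : Module.End ℚ V} {r : ℕ} (hr : r ≠ 0) (h : u ^ r = 1)
    {W : Submodule ℚ V} (hW : ∀ w ∈ W, u w ∈ W) :
    finrank ℚ (W ⊓ fix u : Submodule ℚ V) + finrank ℚ (W ⊓ mv u r : Submodule ℚ V) = finrank ℚ W := by
  have h1 := Submodule.finrank_sup_add_finrank_inf_eq (W ⊓ fix u) (W ⊓ mv u r)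
  have h2 : (W ⊓ fix u) ⊓ (W ⊓ mv u r) = ⊥ := by
    rw [eq_bot_iff]
    rintro w ⟨⟨-, h3⟩, -, h4⟩
    exact eq_zero_of_fix hr (mem_fix.1 h3) h4
  have h3 : (W ⊓ fix u) ⊔ (W ⊓ mv u r) = W := by
    apply le_antisymm
    · exact sup_le inf_le_left inf_le_left
    · intro w hw
      have h4 : (1 / r : ℚ) • nr u r w ∈ W ⊓ fix u :=
        Submodule.smul_mem _ _ ⟨nr_inv hW hw, nr_mem_fix h w⟩
      have h5 : w - (1 / r : ℚ) • nr u r w ∈ W ⊓ mv u r := ⟨W.sub_mem hw h4.1, sub_mem_mv hr h w⟩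
      rw [Submodule.mem_sup]
      exact ⟨_, h4, _, h5, by abel⟩
  rw [h2, finrank_bot, add_zero, h3] at h1
  exact h1.symm

/-- the sum of the projections -/
theorem sum_nr {k c : Module.End ℚ V} (hk : Commute k c) (hc5 : c ^ 5 = 1) {u : V} (hu : u ∈ mv c 5) :
    ∑ i ∈ Finset.range 5, nr (k * c ^ i) 5 u = (5 : ℚ) • u := by
  have h0 : u + c u + (c ^ 2) u + (c ^ 3) u + (c ^ 4) u = 0 := by
    have := mem_mv.1 hu
    unfold nr at this
    rw [LinearMap.sum_apply] at this
    simpa [Finset.sum_range_succ] using this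
  have hterm : ∀ i j : ℕ, ((k * c ^ i) ^ j) u = (k ^ j) ((c ^ (i * j)) u) := by
    intro i j
    rw [(hk.pow_right i).mul_pow, Module.End.mul_apply, ← pow_mul]
  have h1 : ∑ i ∈ Finset.range 5, nr (k * c ^ i) 5 u =
      ∑ j ∈ Finset.range 5, (k ^ j) (∑ i ∈ Finset.range 5, (c ^ (i * j)) u) := by
    unfold nr
    simp only [LinearMap.sum_apply, map_sum, hterm]
    exact Finset.sum_comm
  have hred : ∀ n : ℕ, (c ^ n) u = (c ^ (n % 5)) u := by
    intro n
    conv_lhs => rw [← Nat.div_add_mod n 5, pow_add, pow_mul, hc5, one_pow, one_mul]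
  rw [h1]
  have hj : ∀ j ∈ Finset.range 5, j ≠ 0 → (k ^ j) (∑ i ∈ Finset.range 5, (c ^ (i * j)) u) = 0 := by
    intro j hj hj0
    rw [Finset.mem_range] at hj
    have h2 : ∑ i ∈ Finset.range 5, (c ^ (i * j)) u = 0 := by
      rw [← h0]
      simp only [Finset.sum_range_succ, Finset.sum_range_zero, zero_mul, pow_zero, Module.End.one_apply, zero_add,
        one_mul]
      interval_cases j
      · exact absurd rfl hj0
      · norm_num
      · rw [hred (3 * 2), hred (4 * 2)]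
        norm_num
        abel
      · rw [hred (2 * 3), hred (3 * 3), hred (4 * 3)]
        norm_num
        abel
      · rw [hred (2 * 4), hred (3 * 4), hred (4 * 4)]
        norm_num
        abel
    rw [h2, map_zero]
  rw [Finset.sum_eq_single 0 hj (fun h => absurd (Finset.mem_range.2 (by norm_num)) h)]
  simp only [mul_zero, pow_zero, Module.End.one_apply, Finset.sum_const, Finset.card_range]
  rw [← Nat.cast_smul_eq_nsmul ℚ]
  norm_num

end

/-! ### The group -/

section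

variable {H : Type*} [Group H] {φ : H →* Co0} {v : leechLattice} {x : H}

theorem cm {a b : H} (h : a * b = b * a) : Commute (rep (φ a)) (rep (φ b)) :=
  ((show Commute a b from h).map φ).map rep

theorem rpow {y : H} {n : ℕ} (h : y ^ n = 1) : rep (φ y) ^ n = 1 := by rw [← map_pow, ← map_pow, h, map_one, map_one]

theorem finrank_x (hφ : Function.Injective φ) (hv : v ≠ 0) (hfix : ∀ h, φ h • v = v) (hx : orderOf x = 3) :
    finrank ℚ (mv (rep (φ x)) 3) ≤ 18 ∧ finrank ℚ (fix (rep (φ x))) ≤ 12 ∧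
      finrank ℚ (fix (rep (φ x))) + finrank ℚ (mv (rep (φ x)) 3) = 24 := by
  have ox : orderOf (φ x) = 3 := (orderOf_injective φ hφ x).trans hx
  have h1 := finrank_add (u := rep (φ x)) (r := 3) (by norm_num) (rpow (by rw [← hx, pow_orderOf_eq_one]))
  rw [finrank_Sp] at h1
  have h2 := finrank_fix_ne_zero hv (hfix x)
  have h3 := Cfsg.Agent.PreUniqCo.Facts.facts.dims (φ x) ox
  omega

theorem eight_dvd (hx : orderOf x = 3) (hc : ∀ g, g * x = x * g) {c : H} (hc5 : c ^ 5 = 1) {U : Submodule ℚ Sp}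
    (hUx : U ≤ mv (rep (φ x)) 3) (hUc : U ≤ mv (rep (φ c)) 5) (hU : ∀ w ∈ U, rep (φ (x * c)) w ∈ U) :
    8 ∣ finrank ℚ U := by
  have hx3 : x ^ 3 = 1 := by rw [← hx, pow_orderOf_eq_one]
  have hxc : Commute x c := (hc c).symm
  have h1 : Nat.totient 15 = 8 := by decide
  rw [← h1]
  refine dvd_finrank_sub (f := rep (φ (x * c))) (by norm_num) (rpow ?_) hU ?_
  · rw [hxc.mul_pow, show 15 = 3 * 5 from rfl, pow_mul, hx3, one_pow, mul_comm 3 5, pow_mul, hc5, one_pow, one_mul]
  · intro p hp hp15 w hw hw'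
    have h2 : p = 3 ∨ p = 5 := by
      have h3 : p ∣ 3 * 5 := hp15
      rcases (Nat.Prime.dvd_mul hp).1 h3 with h | h
      · exact Or.inl ((Nat.prime_dvd_prime_iff_eq hp (by norm_num)).1 h)
      · exact Or.inr ((Nat.prime_dvd_prime_iff_eq hp (by norm_num)).1 h)
    rcases h2 with rfl | rfl
    · -- `(x c) ^ 5 = x ^ 2`
      have h4 : (x * c) ^ 5 = x ^ 2 := by
        rw [hxc.mul_pow, hc5, mul_one, show 5 = 3 + 2 from rfl, pow_add, hx3, one_mul]
      have h5 : (rep (φ x) ^ 2) w = w := by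
        rw [← map_pow, ← map_pow, ← h4, map_pow, map_pow]
        exact hw'
      have h6 : rep (φ x) w = w := by
        have h7 : (rep (φ x) ^ (2 * 2)) w = w := by rw [pow_mul]; exact pow_fix h5 2
        have h8 : rep (φ x) ^ (2 * 2) = rep (φ x) := by
          rw [show 2 * 2 = 3 + 1 from rfl, pow_succ, rpow hx3, one_mul]
        rwa [h8] at h7
      exact eq_zero_of_fix (by norm_num) h6 (hUx hw)
    · have h4 : (x * c) ^ 3 = c ^ 3 := by rw [hxc.mul_pow, hx3, one_mul]
      have h5 : (rep (φ c) ^ 3) w = w := by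
        rw [← map_pow, ← map_pow, ← h4, map_pow, map_pow]
        exact hw'
      have h6 : rep (φ c) w = w := by
        have h7 : (rep (φ c) ^ (3 * 2)) w = w := by rw [pow_mul]; exact pow_fix h5 2
        have h8 : rep (φ c) ^ (3 * 2) = rep (φ c) := by
          rw [show 3 * 2 = 5 + 1 from rfl, pow_succ, rpow hc5, one_mul]
        rwa [h8] at h7
      exact eq_zero_of_fix (by norm_num) h6 (hUc hw)

theorem ne_zero (hφ : Function.Injective φ) (hv : v ≠ 0) (hfix : ∀ h, φ h • v = v) (hx : orderOf x = 3)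
    (hc : ∀ g, g * x = x * g) {c : H} (hc5 : orderOf c = 5) :
    finrank ℚ (mv (rep (φ x)) 3 ⊓ mv (rep (φ c)) 5 : Submodule ℚ Sp) ≠ 0 := by
  intro h0
  have hx3 : x ^ 3 = 1 := by rw [← hx, pow_orderOf_eq_one]
  have h1 : mv (rep (φ c)) 5 ≤ fix (rep (φ x)) := by
    refine le_fix_of (r := 3) (by norm_num) (rpow hx3) (fun w hw => mv_inv (cm (hc c).symm) hw) ?_
    intro w hw hw'
    have h5 : w ∈ (mv (rep (φ x)) 3 ⊓ mv (rep (φ c)) 5 : Submodule ℚ Sp) := ⟨hw', hw⟩
    rw [Submodule.finrank_eq_zero.1 h0, Submodule.mem_bot] at h5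
    exact h5
  have h2 := Submodule.finrank_mono h1
  have h3 := sixteen_le ((orderOf_injective φ hφ c).trans hc5)
  have h4 := finrank_x hφ hv hfix hx
  omega

theorem no_order_25 (hφ : Function.Injective φ) (hv : v ≠ 0) (hfix : ∀ h, φ h • v = v) (hx : orderOf x = 3)
    (hc : ∀ g, g * x = x * g) {y : H} (hy : orderOf y = 25) : False := by
  have hx3 : x ^ 3 = 1 := by rw [← hx, pow_orderOf_eq_one]
  have hy25 : y ^ 25 = 1 := by rw [← hy, pow_orderOf_eq_one]
  have hz : orderOf (y ^ 5) = 5 := by rw [orderOf_pow_of_dvd (by norm_num) (by rw [hy]; norm_num), hy]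
  have hxy : Commute x y := (hc y).symm
  have h0 := ne_zero hφ hv hfix hx hc hz
  have h1 : Nat.totient 75 = 40 := by decide
  have h2 : 40 ∣ finrank ℚ (mv (rep (φ x)) 3 ⊓ mv (rep (φ (y ^ 5))) 5 : Submodule ℚ Sp) := by
    rw [← h1]
    refine dvd_finrank_sub (f := rep (φ (x * y))) (by norm_num) (rpow ?_) ?_ ?_
    · rw [hxy.mul_pow, show 75 = 3 * 25 from rfl, pow_mul, hx3, one_pow, mul_comm 3 25, pow_mul, hy25, one_pow,
        one_mul]
    · intro w hw
      exact ⟨mv_inv (cm (hc _)) hw.1, mv_inv (cm (by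
        show x * y * y ^ 5 = y ^ 5 * (x * y)
        exact ((hxy.pow_right 5).mul_left ((Commute.refl y).pow_right 5)).eq)) hw.2⟩
    · intro p hp hp75 w hw hw'
      have h2 : p = 3 ∨ p = 5 := by
        have h3 : p ∣ 3 * (5 * 5) := hp75
        rcases (Nat.Prime.dvd_mul hp).1 h3 with h | h
        · exact Or.inl ((Nat.prime_dvd_prime_iff_eq hp (by norm_num)).1 h)
        · rcases (Nat.Prime.dvd_mul hp).1 h with h | h
          all_goals exact Or.inr ((Nat.prime_dvd_prime_iff_eq hp (by norm_num)).1 h)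
      rcases h2 with rfl | rfl
      · have h4 : (x * y) ^ 25 = x := by
          rw [hxy.mul_pow, hy25, mul_one, show 25 = 3 * 8 + 1 from rfl, pow_succ, pow_mul, hx3, one_pow, one_mul]
        have h5 : rep (φ x) w = w := by
          conv_lhs => rw [← h4, map_pow, map_pow]
          exact hw'
        exact eq_zero_of_fix (by norm_num) h5 hw.1
      · have h4 : (x * y) ^ 15 = (y ^ 5) ^ 3 := by
          rw [hxy.mul_pow, show 15 = 3 * 5 from rfl, pow_mul, hx3, one_pow, one_mul, ← pow_mul]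
        have h5 : (rep (φ (y ^ 5)) ^ 3) w = w := by
          rw [← map_pow, ← map_pow, ← h4, map_pow, map_pow]
          exact hw'
        have hz5 : (y ^ 5) ^ 5 = 1 := by rw [← pow_mul]; exact hy25
        have h6 : rep (φ (y ^ 5)) w = w := by
          have h7 : (rep (φ (y ^ 5)) ^ (3 * 2)) w = w := by rw [pow_mul]; exact pow_fix h5 2
          have h8 : rep (φ (y ^ 5)) ^ (3 * 2) = rep (φ (y ^ 5)) := by
            rw [show 3 * 2 = 5 + 1 from rfl, pow_succ, rpow hz5, one_mul]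
          rwa [h8] at h7
        exact eq_zero_of_fix (by norm_num) h6 hw.2
  have h3 : finrank ℚ (mv (rep (φ x)) 3 ⊓ mv (rep (φ (y ^ 5))) 5 : Submodule ℚ Sp) ≤ finrank ℚ (mv (rep (φ x)) 3) :=
    Submodule.finrank_mono inf_le_left
  have h4 := finrank_x hφ hv hfix hx
  have h5 := Nat.le_of_dvd (Nat.pos_of_ne_zero h0) h2
  omega

theorem no_pair (hφ : Function.Injective φ) (hv : v ≠ 0) (hfix : ∀ h, φ h • v = v) (hx : orderOf x = 3)
    (hc : ∀ g, g * x = x * g) {c k : H} (hc5 : orderOf c = 5) (hk5 : k ^ 5 = 1) (hck : k * c = c * k)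
    (hk : k ∉ zpowers c) : False := by
  have hcc : c ^ 5 = 1 := by rw [← hc5, pow_orderOf_eq_one]
  have hx3 : x ^ 3 = 1 := by rw [← hx, pow_orderOf_eq_one]
  obtain ⟨hw18, hf12, hsum⟩ := finrank_x hφ hv hfix hx
  have h0 := ne_zero hφ hv hfix hx hc hc5
  obtain ⟨u, hu, hu0⟩ : ∃ u ∈ (mv (rep (φ x)) 3 ⊓ mv (rep (φ c)) 5 : Submodule ℚ Sp), u ≠ 0 := by
    by_contra hcon
    push Not at hcon
    apply h0
    rw [Submodule.finrank_eq_zero, eq_bot_iff]
    intro w hw
    exact (Submodule.mem_bot ℚ).2 (hcon w hw)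
  have hsm := sum_nr (k := rep (φ k)) (c := rep (φ c)) (cm hck) (rpow hcc) hu.2
  obtain ⟨i, hi⟩ : ∃ i, nr (rep (φ k) * rep (φ c) ^ i) 5 u ≠ 0 := by
    by_contra hcon
    push Not at hcon
    rw [Finset.sum_eq_zero fun i _ => hcon i] at hsm
    have := (smul_eq_zero.1 hsm.symm).resolve_left (by norm_num)
    exact hu0 this
  -- the element `s`
  have hes : rep (φ k) * rep (φ c) ^ i = rep (φ (k * c ^ i)) := by rw [map_mul, map_mul, map_pow, map_pow]
  rw [hes] at hi
  set s := k * c ^ i with hs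
  have hkc : Commute k c := hck
  have hs5 : s ^ 5 = 1 := by
    rw [hs, (hkc.pow_right i).mul_pow, hk5, one_mul, ← pow_mul, mul_comm, pow_mul, hcc, one_pow]
  have hs1 : s ≠ 1 := by
    intro h
    apply hk
    rw [eq_inv_of_mul_eq_one_left h]
    exact inv_mem (pow_mem (mem_zpowers c) i)
  have os : orderOf s = 5 := by
    have : Fact (Nat.Prime 5) := ⟨by norm_num⟩
    exact orderOf_eq_prime hs5 hs1
  have hsc : s * c = c * s := (hkc.mul_left ((Commute.refl c).pow_left i)).eq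
  have hxc : x * c = c * x := (hc c).symm
  have hxs : x * s = s * x := (hc s).symm
  -- the fixed points of `s` on the moved space
  have h1 : 8 ∣ finrank ℚ ((mv (rep (φ x)) 3 ⊓ mv (rep (φ c)) 5) ⊓ fix (rep (φ s)) : Submodule ℚ Sp) := by
    refine eight_dvd hx hc hcc (fun w hw => hw.1.1) (fun w hw => hw.1.2) ?_
    intro w hw
    have e1 : x * c * x = x * (x * c) := hc (x * c)
    have e2 : x * c * c = c * (x * c) := by rw [← mul_assoc c x c, ← hxc]
    have e3 : x * c * s = s * (x * c) := by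
      rw [mul_assoc, ← hsc, ← mul_assoc, hxs, mul_assoc]
    exact ⟨⟨mv_inv (cm e1) hw.1.1, mv_inv (cm e2) hw.1.2⟩, PreUniqCo.Rat.fix_comm (cm e3).symm w hw.2⟩
  have h2 : finrank ℚ ((mv (rep (φ x)) 3 ⊓ mv (rep (φ c)) 5) ⊓ fix (rep (φ s)) : Submodule ℚ Sp) ≠ 0 := by
    intro h
    apply hi
    have h3 : nr (rep (φ s)) 5 u ∈ ((mv (rep (φ x)) 3 ⊓ mv (rep (φ c)) 5) ⊓ fix (rep (φ s)) : Submodule ℚ Sp) :=
      ⟨nr_inv (W := mv (rep (φ x)) 3 ⊓ mv (rep (φ c)) 5)
        (fun w hw => ⟨mv_inv (cm hxs.symm) hw.1, mv_inv (cm hsc) hw.2⟩) hu, nr_mem_fix (rpow hs5) u⟩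
    rw [Submodule.finrank_eq_zero.1 h, Submodule.mem_bot] at h3
    exact h3
  have h3 := Nat.le_of_dvd (Nat.pos_of_ne_zero h2) h1
  have h4 : finrank ℚ ((mv (rep (φ x)) 3 ⊓ mv (rep (φ c)) 5) ⊓ fix (rep (φ s)) : Submodule ℚ Sp) ≤
      finrank ℚ (mv (rep (φ x)) 3 ⊓ fix (rep (φ s)) : Submodule ℚ Sp) :=
    Submodule.finrank_mono fun w hw => ⟨hw.1.1, hw.2⟩
  have h5 := finrank_inf_add (u := rep (φ s)) (r := 5) (by norm_num) (rpow hs5) (W := mv (rep (φ x)) 3)
    (fun w hw => mv_inv (cm hxs.symm) hw)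
  have h6 : 8 ∣ finrank ℚ (mv (rep (φ x)) 3 ⊓ mv (rep (φ s)) 5 : Submodule ℚ Sp) := by
    refine eight_dvd hx hc hs5 inf_le_left inf_le_right ?_
    intro w hw
    have e1 : x * s * x = x * (x * s) := hc (x * s)
    have e2 : x * s * s = s * (x * s) := by rw [← mul_assoc s x s, ← hxs]
    exact ⟨mv_inv (cm e1) hw.1, mv_inv (cm e2) hw.2⟩
  have h7 := ne_zero hφ hv hfix hx hc os
  -- decomposition of the moved space of `s`
  have h8 := finrank_inf_add (u := rep (φ x)) (r := 3) (by norm_num) (rpow hx3) (W := mv (rep (φ s)) 5)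
    (fun w hw => mv_inv (cm hxs) hw)
  have h9 := sixteen_le ((orderOf_injective φ hφ s).trans os)
  rw [inf_comm (mv (rep (φ s)) 5) (mv (rep (φ x)) 3)] at h8
  have h10 : finrank ℚ (mv (rep (φ s)) 5 ⊓ fix (rep (φ x)) : Submodule ℚ Sp) ≠ finrank ℚ (fix (rep (φ x))) := by
    intro h
    have h11 := Submodule.eq_of_le_of_finrank_eq (inf_le_right : mv (rep (φ s)) 5 ⊓ fix (rep (φ x)) ≤ _) h
    have h12 : tau v ∈ fix (rep (φ x)) := mem_fix_tau.2 (hfix x)
    rw [← h11] at h12
    have h13 := eq_zero_of_fix (by norm_num) (mem_fix.1 (mem_fix_tau.2 (hfix s))) h12.1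
    exact hv (tau_injective (by rw [h13, map_zero]))
  have h11 : finrank ℚ (mv (rep (φ s)) 5 ⊓ fix (rep (φ x)) : Submodule ℚ Sp) ≤ finrank ℚ (fix (rep (φ x))) :=
    Submodule.finrank_mono inf_le_right
  omega

/-- **`25` does not divide the order.** -/
theorem not_25 [Finite H] (hφ : Function.Injective φ) (hv : v ≠ 0) (hfix : ∀ h, φ h • v = v) (hx : orderOf x = 3)
    (hc : ∀ g, g * x = x * g) : ¬ 25 ∣ Nat.card H := by
  intro hd
  have h5 : Fact (Nat.Prime 5) := ⟨by norm_num⟩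
  obtain ⟨P, hP⟩ := Sylow.exists_subgroup_card_pow_prime 5 (n := 2) (G := H) hd
  have hab : ∀ a b : P, a * b = b * a := fun a b =>
    (IsPGroup.isMulCommutative_of_card_eq_prime_sq hP).is_comm.comm a b
  have hpow : ∀ y ∈ P, y ^ 5 = 1 := by
    intro y hy
    have h1 : orderOf y ∣ 5 ^ 2 := by
      rw [← hP]
      exact Subgroup.orderOf_dvd_natCard P hy
    obtain ⟨k, hk, hk'⟩ := (Nat.dvd_prime_pow h5.1).1 h1
    have hk2 : k ≠ 2 := by
      rintro rfl
      exact no_order_25 hφ hv hfix hx hc hk'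
    apply orderOf_dvd_iff_pow_eq_one.1
    rw [hk']
    calc 5 ^ k ∣ 5 ^ 1 := pow_dvd_pow 5 (by omega)
      _ = 5 := pow_one 5
  obtain ⟨c, hc1⟩ : ∃ c : P, c ≠ 1 := by
    have : Nontrivial P := (Finite.one_lt_card_iff_nontrivial).1 (by rw [hP]; norm_num)
    exact exists_ne 1
  have hoc : orderOf (c : H) = 5 := orderOf_eq_prime (hpow c c.2) (fun h => hc1 (Subtype.ext h))
  obtain ⟨k, hkP, hk⟩ : ∃ k ∈ P, k ∉ zpowers (c : H) := by
    by_contra hcon
    push Not at hcon
    have h1 := Nat.card_le_card_of_injective (Subgroup.inclusion (show P ≤ zpowers (c : H) from hcon))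
      (Subgroup.inclusion_injective _)
    rw [hP, Nat.card_zpowers, hoc] at h1
    norm_num at h1
  exact no_pair hφ hv hfix hx hc hoc (hpow k hkP) (congrArg Subtype.val (hab ⟨k, hkP⟩ c)) hk

end

/-- **Elements of order three of a group of automorphisms of the Leech lattice fixing a nonzero vector** -/
theorem not_25_cent {K : Type*} [Group K] [Finite K] {φ : K →* Co0} (hφ : Function.Injective φ) {v : leechLattice}
    (hv : v ≠ 0) (hfix : ∀ h, φ h • v = v) {x : K} (hx : orderOf x = 3) :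
    ¬ 25 ∣ Nat.card (centralizer ({x} : Set K)) := by
  have hmem : x ∈ centralizer ({x} : Set K) := mem_centralizer_singleton_iff.2 rfl
  obtain ⟨y, hy⟩ : ∃ y : ↥(centralizer ({x} : Set K)), (y : K) = x := ⟨⟨x, hmem⟩, rfl⟩
  refine not_25 (φ := φ.comp (centralizer ({x} : Set K)).subtype) (v := v) (x := y)
    (hφ.comp Subtype.val_injective) hv (fun h => hfix h) ?_ ?_
  · rw [← Subgroup.orderOf_coe, hy, hx]
  · intro g
    apply Subtype.ext
    rw [coe_mul, coe_mul, hy]
    exact mem_centralizer_singleton_iff.1 g.2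

end Cfsg.Agent.H647.CoThree
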