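import Cfsg.Agent.H647.SpF.Fi22
import Cfsg.Agent.OddHalf.D4.Spor.Fi22

/-!
# The centralizers of elements of order 3, 5, 7, 11 of `Fi22`: the facts (helper647)

`CB 3 2 11`, `CB 3 5 1`, `CB 5 3 4`, `CB 5 11 0`, `CB 7 3 1`, `CB 7 5 0`, `CB 11 2 1`, `CB 11 7 0` for `Spor.Fi22`.
-/

set_option autoImplicit false

namespace Cfsg.Agent.H647.SpF.Fi22

open Subgroup Cfsg
open Cfsg.Agent.LThreeFi22 Cfsg.Agent.H537.Cop

local notation "TT" => Cfsg.Agent.R01.Fi22Facts.T

theorem ctx0 : Ctx Spor.Fi22 TT := by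
  have h : Cfsg.Agent.KFacts.FiTT.TK (MulEquiv.refl Spor.Fi22) = TT := by
    ext x
    rw [Inst.mem_TK]
    rfl
  rw [← h]
  exact Inst.ctx _

theorem pw {r : ℕ} (hr : r ≠ 1) {x : Spor.Fi22} (hx : orderOf x = r) : x ^ r = 1 ∧ x ≠ 1 := by
  refine ⟨by rw [← hx, pow_orderOf_eq_one], ?_⟩
  rintro rfl
  rw [orderOf_one] at hx
  exact hr hx.symm

theorem cb_3_2 : CB 3 2 11 Spor.Fi22 := by
  intro x hx
  have C := ctx0
  have := C.finite
  obtain ⟨h1, h2⟩ := pw (by norm_num) hx
  refine three_two C Cfsg.Agent.R08.AutT.tFacts ?_ h1 h2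
  intro d hd x hx hx1 hxd P m hm hPd hPx
  obtain ⟨π, lift, B⟩ := Inst.base_at (MulEquiv.refl Spor.Fi22) (a := d) ((Inst.mem_TK _).2 hd)
  exact U.le_ten B hx hx1 hxd hm hPd hPx

/-- `s` divides the order of a centralizer -/
theorem ex {x : Spor.Fi22} {s : ℕ} (hs : s.Prime) (h : s ∣ Nat.card ↥(centralizer ({x} : Set Spor.Fi22))) :
    ∃ y : Spor.Fi22, orderOf y = s ∧ x * y = y * x := by
  have := ctx0.finite
  have : Fact s.Prime := ⟨hs⟩
  obtain ⟨y, hy⟩ := exists_prime_orderOf_dvd_card' s h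
  exact ⟨y, by rw [← hy, orderOf_coe], (mem_centralizer_singleton_iff.1 y.2).symm⟩

theorem cb_3_5 : CB 3 5 1 Spor.Fi22 := by
  intro x hx hd
  have C := ctx0
  obtain ⟨h1, h2⟩ := pw (by norm_num) hx
  obtain ⟨y, hy, hxy⟩ := ex (by norm_num) ((dvd_pow_self 5 (by norm_num)).trans hd)
  obtain ⟨h3, h4⟩ := pw (by norm_num) hy
  obtain ⟨a, ha, b, hb, hab, rfl⟩ := C.five h3 h4 h1 h2 hxy
  rw [C.card_three ha hb hab] at hd
  revert hd
  norm_num

theorem cb_5_3 : CB 5 3 1 Spor.Fi22 := by
  intro x hx hd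
  obtain ⟨h1, h2⟩ := pw (by norm_num) hx
  exact ctx0.nine_five h1 h2 (by norm_num at hd; exact hd)

theorem cb_5_3' : CB 5 3 4 Spor.Fi22 := cb_5_3.mono (by norm_num)

theorem cb_5_11 : CB 5 11 0 Spor.Fi22 := by
  intro x hx hd
  rw [zero_add, pow_one] at hd
  obtain ⟨y, hy, hxy⟩ := ex (by norm_num) hd
  have h1 := orderOf_dvd_natCard (⟨x, mem_centralizer_singleton_iff.2 hxy⟩ : centralizer ({y} : Set Spor.Fi22))
  rw [Subgroup.orderOf_mk, hx, Cfsg.Agent.H713.Spor.Fi22.cent_11 (MulEquiv.refl _) hy] at h1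
  revert h1
  norm_num

theorem cb_7_3 : CB 7 3 1 Spor.Fi22 := by
  intro x hx hd
  obtain ⟨h1, h2⟩ := pw (by norm_num) hx
  exact ctx0.nine_seven h1 h2 (by norm_num at hd; exact hd)

theorem cb_7_5 : CB 7 5 0 Spor.Fi22 := by
  intro y hy hd
  have C := ctx0
  have := C.finite
  rw [zero_add, pow_one] at hd
  obtain ⟨u, hu, hyu⟩ := ex (by norm_num) hd
  obtain ⟨y1, y2⟩ := pw (by norm_num) hy
  obtain ⟨u1, u2⟩ := pw (by norm_num) hu
  have h3 := C.seven_card y1 y2
  -- `u` fixes some element of `Fx y`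
  have h4 := fix_modEq (r := 5) (by norm_num) u1 (S := Fx TT y) (fun s hs => C.fx_conj hyu.symm hs)
  rw [h3] at h4
  obtain ⟨d, ⟨hdT, hyd⟩, hud⟩ : ∃ d ∈ Fx TT y, u * d = d * u := by
    by_contra hcon
    push Not at hcon
    have h5 : {s | s ∈ Fx TT y ∧ u * s = s * u} = ∅ :=
      Set.eq_empty_iff_forall_notMem.2 (fun s hs => hcon s hs.1 hs.2)
    rw [h5, Set.ncard_empty] at h4
    revert h4
    decide
  have h6 := (C.iso5 u u1 u2 d hdT hud).1
  have h7 := fix_modEq (r := 7) (by norm_num) y1 (S := {c | c ∈ TT ∧ c ≠ d ∧ d * c = c * d ∧ u * c = c * u}) (by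
    rintro s ⟨hs, hsd, hds, hus⟩
    refine ⟨C.conj s hs y, fun h => hsd ?_, conj_of_comm hyd hds, conj_of_comm hyu hus⟩
    have h8 : y * s = d * y := mul_inv_eq_iff_eq_mul.1 h
    rw [← hyd] at h8
    exact mul_left_cancel h8)
  rw [h6] at h7
  obtain ⟨c, ⟨hcT, hcd, hdc, -⟩, hyc⟩ : ∃ c ∈ {c | c ∈ TT ∧ c ≠ d ∧ d * c = c * d ∧ u * c = c * u}, y * c = c * y := by
    by_contra hcon
    push Not at hcon
    have h5 : {s | s ∈ {c | c ∈ TT ∧ c ≠ d ∧ d * c = c * d ∧ u * c = c * u} ∧ y * s = s * y} = ∅ :=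
      Set.eq_empty_iff_forall_notMem.2 (fun s hs => hcon s hs.1 hs.2)
    rw [h5, Set.ncard_empty] at h7
    revert h7
    decide
  exact C.iso7 7 (Or.inl rfl) y y1 y2 d hdT hyd c hcT hcd hdc hyc

theorem cb_11_2 : CB 11 2 1 Spor.Fi22 := by
  intro x hx hd
  rw [Cfsg.Agent.H713.Spor.Fi22.cent_11 (MulEquiv.refl _) hx] at hd
  revert hd
  norm_num

theorem cb_11_7 : CB 11 7 0 Spor.Fi22 := by
  intro x hx hd
  rw [Cfsg.Agent.H713.Spor.Fi22.cent_11 (MulEquiv.refl _) hx] at hd
  revert hd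
  norm_num

theorem cb_11_3 : CB 11 3 0 Spor.Fi22 := by
  intro x hx hd
  rw [Cfsg.Agent.H713.Spor.Fi22.cent_11 (MulEquiv.refl _) hx] at hd
  revert hd
  norm_num

theorem cb_11_5 : CB 11 5 0 Spor.Fi22 := by
  intro x hx hd
  rw [Cfsg.Agent.H713.Spor.Fi22.cent_11 (MulEquiv.refl _) hx] at hd
  revert hd
  norm_num

/-! ### involutions -/

/-- the orbit of `a` under `H` is contained in a set with at most `N` elements -/
theorem orbit_le {K : Type*} [Group K] [Finite K] (H : Subgroup K) (a : K) {S : Set K} {N : ℕ} (hN : S.ncard ≤ N)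
    (hS : ∀ h ∈ H, h * a * h⁻¹ ∈ S) :
    ∃ n, n ≤ N ∧ n * Nat.card ↥(H ⊓ centralizer ({a} : Set K)) = Nat.card ↥H := by
  refine ⟨{x | ∃ h ∈ H, x = h * a * h⁻¹}.ncard, ?_, orbit_card H a (fun x => Iff.rfl)⟩
  refine (Set.ncard_le_ncard ?_ (Set.toFinite _)).trans hN
  rintro _ ⟨h, hh, rfl⟩
  exact hS h hh

theorem involution (w : Spor.Fi22) (hw : orderOf w = 2) :
    ¬ 3 ^ 7 ∣ Nat.card ↥(centralizer ({w} : Set Spor.Fi22)) ∧ ¬ 5 ^ 2 ∣ Nat.card ↥(centralizer ({w} : Set Spor.Fi22)) := by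
  have C := ctx0
  have := C.finite
  have Fa := Cfsg.Agent.R08.AutT.tFacts
  obtain ⟨w2, w1⟩ := pw (by norm_num) hw
  rcases Cfsg.Agent.OddHalf.D4.Spor.Fi22.inv_cases (by rw [← pow_two, w2]) w1 with
    h1 | ⟨a, ha, b, hb, hab, cab, rfl⟩ | ⟨a, b, c, h1, rfl⟩
  · rw [C.card_cent h1]
    constructor <;> norm_num
  · have key : ∀ g ∈ centralizer ({a * b} : Set Spor.Fi22), g * a * g⁻¹ ∈ ({a, b} : Set Spor.Fi22) := by
      intro g hg
      rcases C.cz a ha b hb hab cab g (mem_centralizer_singleton_iff.1 hg) with ⟨h, -⟩ | ⟨h, -⟩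
      · exact Or.inl (mul_inv_eq_iff_eq_mul.2 h)
      · exact Or.inr h
    obtain ⟨n, hn, hc⟩ := orbit_le (centralizer ({a * b} : Set Spor.Fi22)) a (N := 2)
      ((Set.ncard_insert_le _ _).trans (by rw [Set.ncard_singleton])) key
    have h2 : Nat.card ↥(centralizer ({a * b} : Set Spor.Fi22)) ∣ n * 18393661440 := by
      rw [← hc, ← C.card_cent ha]
      exact Nat.mul_dvd_mul_left _ (Subgroup.card_dvd_of_le inf_le_right)
    have hn0 : n ≠ 0 := by
      rintro rfl
      rw [zero_mul] at hc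
      exact Nat.card_pos.ne hc
    constructor
    · intro hd
      have h3 := hd.trans h2
      interval_cases n
      · exact hn0 rfl
      · revert h3; norm_num
      · revert h3; norm_num
    · intro hd
      have h3 := hd.trans h2
      interval_cases n
      · exact hn0 rfl
      · revert h3; norm_num
      · revert h3; norm_num
  · obtain ⟨a', b', c', H⟩ := Fa.hex a b c h1
    have haT := h1.mx
    have hbT := h1.my
    -- the orbit of `a` under `C(w)` is contained in the hexad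
    have key : ∀ g ∈ centralizer ({a * b * c} : Set Spor.Fi22),
        g * a * g⁻¹ ∈ ({a, b, c, a', b', c'} : Set Spor.Fi22) := by
      intro g hg
      have hg' := mem_centralizer_singleton_iff.1 hg
      by_contra hcon
      simp only [Set.mem_insert_iff, Set.mem_singleton_iff, not_or] at hcon
      obtain ⟨n1, n2, n3, n4, n5, n6⟩ := hcon
      have tri := fun (t : Spor.Fi22) (htT : t ∈ Cfsg.Agent.R08.AutT.T) =>
        Cfsg.Agent.OddHalf.D4.Spor.Fi22.comm_tri Cfsg.Agent.StdFi22.MainFi22.bas h1 htT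
      have aw : a * (a * b * c) = a * b * c * a := by
        calc a * (a * b * c) = a * (a * (b * c)) := by group
          _ = a * (a * (c * b)) := by rw [h1.cyw]
          _ = a * ((a * c) * b) := by group
          _ = a * ((c * a) * b) := by rw [h1.cxw]
          _ = (a * c) * (a * b) := by group
          _ = (a * c) * (b * a) := by rw [h1.cxy]
          _ = a * (c * b) * a := by group
          _ = a * (b * c) * a := by rw [h1.cyw]
          _ = _ := by group
      have gc : g⁻¹ * (a * b * c) = a * b * c * g⁻¹ := by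
        calc g⁻¹ * (a * b * c) = g⁻¹ * (a * b * c * g) * g⁻¹ := by group
          _ = g⁻¹ * (g * (a * b * c)) * g⁻¹ := by rw [hg']
          _ = _ := by group
      have xw : g * a * g⁻¹ * (a * b * c) = a * b * c * (g * a * g⁻¹) := by
        calc g * a * g⁻¹ * (a * b * c) = g * a * (g⁻¹ * (a * b * c)) := by group
          _ = g * (a * (a * b * c)) * g⁻¹ := by rw [gc]; group
          _ = g * (a * b * c) * a * g⁻¹ := by rw [aw]; group
          _ = _ := by rw [hg']; group
      have xT : g * a * g⁻¹ ∈ Cfsg.Agent.R08.AutT.T := C.conj a haT g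
      obtain ⟨xa, xb, xc⟩ := tri _ xT xw
      obtain ⟨t, htT, ta, tb, tc, tn⟩ := Cfsg.Agent.OddHalf.D4.Spor.Fi22.exists_ncomm
        Cfsg.Agent.StdFi22.MainFi22.bas H xT xa xb xc n1 n2 n3 n4 n5 n6
      apply tn
      -- `t ^ (g⁻¹)` commutes with `w`, hence with `a`
      have tw : t * (a * b * c) = a * b * c * t := by
        calc t * (a * b * c) = t * a * b * c := by group
          _ = a * (t * b) * c := by rw [ta]; group
          _ = a * b * (t * c) := by rw [tb]; group
          _ = _ := by rw [tc]; group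
      have k1 : g⁻¹ * t * g ∈ Cfsg.Agent.R08.AutT.T := by
        have := C.conj t htT g⁻¹
        rwa [inv_inv] at this
      have k2 : g⁻¹ * t * g * (a * b * c) = a * b * c * (g⁻¹ * t * g) := by
        calc g⁻¹ * t * g * (a * b * c) = g⁻¹ * t * (g * (a * b * c)) := by group
          _ = g⁻¹ * (t * (a * b * c)) * g := by rw [hg']; group
          _ = (g⁻¹ * (a * b * c)) * t * g := by rw [tw]; group
          _ = _ := by rw [gc]; group
      have k3 := (tri _ k1 k2).1
      calc t * (g * a * g⁻¹) = g * ((g⁻¹ * t * g) * a) * g⁻¹ := by group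
        _ = g * (a * (g⁻¹ * t * g)) * g⁻¹ := by rw [k3]
        _ = _ := by group
    have h6 : ({a, b, c, a', b', c'} : Set Spor.Fi22).ncard ≤ 6 := by
      refine (Set.ncard_insert_le _ _).trans (Nat.succ_le_succ ?_)
      refine (Set.ncard_insert_le _ _).trans (Nat.succ_le_succ ?_)
      refine (Set.ncard_insert_le _ _).trans (Nat.succ_le_succ ?_)
      refine (Set.ncard_insert_le _ _).trans (Nat.succ_le_succ ?_)
      refine (Set.ncard_insert_le _ _).trans (Nat.succ_le_succ ?_)
      rw [Set.ncard_singleton]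
    obtain ⟨n, hn, hc⟩ := orbit_le (centralizer ({a * b * c} : Set Spor.Fi22)) a h6 key
    -- the second step
    have key2 : ∀ g ∈ centralizer ({a * b * c} : Set Spor.Fi22) ⊓ centralizer ({a} : Set Spor.Fi22),
        g * b * g⁻¹ ∈ ({b, c} : Set Spor.Fi22) := by
      rintro g ⟨hg, hga⟩
      have hg' := mem_centralizer_singleton_iff.1 hg
      have hga' := mem_centralizer_singleton_iff.1 hga
      have h2 : g * (b * c) = b * c * g := by
        have h3 : a * (g * (b * c)) = a * (b * c * g) := by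
          calc a * (g * (b * c)) = (g * a) * (b * c) := by rw [hga']; group
            _ = g * (a * b * c) := by group
            _ = _ := by rw [hg']; group
        exact mul_left_cancel h3
      rcases C.cz b h1.my c h1.mw h1.yw h1.cyw g h2 with ⟨h, -⟩ | ⟨h, -⟩
      · exact Or.inl (mul_inv_eq_iff_eq_mul.2 h)
      · exact Or.inr h
    obtain ⟨n', hn', hc'⟩ := orbit_le (centralizer ({a * b * c} : Set Spor.Fi22) ⊓ centralizer ({a} : Set Spor.Fi22)) b
      (N := 2) ((Set.ncard_insert_le _ _).trans (by rw [Set.ncard_singleton])) key2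
    have hle : centralizer ({a * b * c} : Set Spor.Fi22) ⊓ centralizer ({a} : Set Spor.Fi22) ⊓
        centralizer ({b} : Set Spor.Fi22) ≤ centralizer ({a} : Set Spor.Fi22) ⊓ centralizer ({b} : Set Spor.Fi22) ⊓
        centralizer ({c} : Set Spor.Fi22) := by
      rintro g ⟨⟨hg, hga⟩, hgb⟩
      have hg' := mem_centralizer_singleton_iff.1 hg
      have hga' := mem_centralizer_singleton_iff.1 hga
      have hgb' := mem_centralizer_singleton_iff.1 hgb
      refine ⟨⟨hga, hgb⟩, mem_centralizer_singleton_iff.2 ?_⟩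
      have h3 : a * b * (g * c) = a * b * (c * g) := by
        calc a * b * (g * c) = a * (g * b) * c := by rw [hgb']; group
          _ = (g * a) * b * c := by rw [hga']; group
          _ = g * (a * b * c) := by group
          _ = _ := by rw [hg']; group
      exact mul_left_cancel h3
    have h3 := Subgroup.card_dvd_of_le hle
    rw [card_cent_tri C Fa h1] at h3
    have h4 : Nat.card ↥(centralizer ({a * b * c} : Set Spor.Fi22)) ∣ n * n' * 147456 := by
      rw [← hc, ← hc', ← mul_assoc]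
      exact Nat.mul_dvd_mul_left _ h3
    have hpos := (Nat.card_pos (α := ↥(centralizer ({a * b * c} : Set Spor.Fi22)))).ne'
    have hn0 : n ≠ 0 := by
      rintro rfl
      rw [zero_mul] at hc
      exact hpos hc.symm
    have hn0' : n' ≠ 0 := by
      rintro rfl
      rw [zero_mul] at hc'
      rw [← hc', mul_zero] at hc
      exact hpos hc.symm
    constructor
    · intro hd
      have h5 := hd.trans h4
      interval_cases n <;> interval_cases n' <;> simp at hn0 hn0' <;> revert h5 <;> norm_num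
    · intro hd
      have h5 := hd.trans h4
      interval_cases n <;> interval_cases n' <;> simp at hn0 hn0' <;> revert h5 <;> norm_num

theorem cb_2_3 : CB 2 3 6 Spor.Fi22 := fun x hx => (involution x hx).1

theorem cb_2_5 : CB 2 5 1 Spor.Fi22 := fun x hx => (involution x hx).2

end Cfsg.Agent.H647.SpF.Fi22
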