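import Cfsg.Agent.H647.SpF.Fi22U
import Cfsg.Agent.R08.AutT
import Cfsg.Agent.H713.Spor.Fi22
import Cfsg.Agent.H537.CopDefs

/-!
# The centralizers of elements of order 3, 5, 7, 11 of `Fi22` (helper647)

`CB 3 2 11`, `CB 3 5 1`, `CB 5 3 4`, `CB 5 11 0`, `CB 7 3 1`, `CB 7 5 0`, `CB 11 2 1`, `CB 11 7 0` for `Spor.Fi22`.
-/

set_option autoImplicit false

namespace Cfsg.Agent.H647.SpF.Fi22

open Subgroup Cfsg
open Cfsg.Agent.LThreeFi22
open Cfsg.Agent.R01.FiFusion (Tri)
open Cfsg.Agent.R01.FiFacts (TFacts Hex)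

universe v

section gen

variable {K : Type v} [Group K]

/-- if all orbits of `P` on `S` have size divisible by `d`, then `d` divides `|S|` -/
theorem dvd_ncard [Finite K] {P : Subgroup K} {S : Set K} (hS : ∀ g ∈ P, ∀ s ∈ S, g * s * g⁻¹ ∈ S) {d : ℕ}
    (h : ∀ s ∈ S, ∀ n : ℕ, n * Nat.card ↥(P ⊓ centralizer ({s} : Set K)) = Nat.card ↥P → d ∣ n) : d ∣ S.ncard := by
  classical
  let _ : MulAction ↥P ↥S := MulAction.compHom _ (actHom P S hS)
  have hsm : ∀ (g : ↥P) (s : ↥S), ((g • s : ↥S) : K) = g * s * (g : K)⁻¹ := fun g s => rfl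
  have : Fintype ↥P := Fintype.ofFinite _
  have : Fintype (Quotient (MulAction.orbitRel ↥P ↥S)) := Fintype.ofFinite _
  have h1 : S.ncard = ∑ ω : Quotient (MulAction.orbitRel ↥P ↥S), Nat.card ↥(MulAction.orbit ↥P (Quotient.out ω)) := by
    rw [← Nat.card_coe_set_eq, Nat.card_congr (MulAction.selfEquivSigmaOrbits ↥P ↥S), Nat.card_sigma]
  rw [h1]
  refine Finset.dvd_sum fun ω _ => ?_
  generalize Quotient.out ω = s
  refine h s s.2 _ ?_
  have : Fintype ↥(MulAction.orbit ↥P s) := Fintype.ofFinite _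
  have : Fintype ↥(MulAction.stabilizer ↥P s) := Fintype.ofFinite _
  have h2 := MulAction.card_orbit_mul_card_stabilizer_eq_card_group ↥P s
  rw [← Nat.card_eq_fintype_card, ← Nat.card_eq_fintype_card, ← Nat.card_eq_fintype_card] at h2
  have h4 : Nat.card ↥(MulAction.stabilizer ↥P s) = Nat.card ↥(P ⊓ centralizer ({(s : K)} : Set K)) := by
    have h5 : MulAction.stabilizer ↥P s = (centralizer ({(s : K)} : Set K)).subgroupOf P := by
      ext g
      rw [MulAction.mem_stabilizer_iff, mem_subgroupOf, mem_centralizer_singleton_iff]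
      constructor
      · intro h
        have := congrArg Subtype.val h
        rw [hsm] at this
        exact mul_inv_eq_iff_eq_mul.1 this
      · intro h
        apply Subtype.ext
        rw [hsm]
        exact mul_inv_eq_iff_eq_mul.2 h
    rw [h5, ← Subgroup.inf_subgroupOf_left]
    exact Nat.card_congr (Subgroup.subgroupOfEquivOfLe inf_le_left).toEquiv
  rw [← h4]
  exact h2

/-- adjoining an involution -/
theorem double {P : Subgroup K} {g : K} (gg : g * g = 1) (hg : ∀ p ∈ P, p * g = g * p) (n1 : g ∉ P) :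
    ∃ P' : Subgroup K, Nat.card ↥P' = 2 * Nat.card ↥P ∧ ∀ y, y ∈ P' ↔ y ∈ P ∨ g * y ∈ P := by
  have hgg : ∀ y : K, g * (g * y) = y := fun y => by rw [← mul_assoc, gg, one_mul]
  let P' : Subgroup K :=
    { carrier := {y | y ∈ P ∨ g * y ∈ P}
      one_mem' := Or.inl P.one_mem
      mul_mem' := by
        rintro y z (hy | hy) (hz | hz)
        · exact Or.inl (P.mul_mem hy hz)
        · right
          have h1 : g * (y * z) = y * (g * z) := by rw [← mul_assoc, ← hg y hy, mul_assoc]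
          rw [h1]
          exact P.mul_mem hy hz
        · right
          rw [← mul_assoc]
          exact P.mul_mem hy hz
        · left
          have h1 : y * z = (g * y) * (g * z) := by
            have h2 := hg _ hy
            calc y * z = (g * (g * y)) * z := by rw [hgg]
              _ = (g * y * g) * z := by rw [← h2]
              _ = _ := by rw [mul_assoc]
          rw [h1]
          exact P.mul_mem hy hz
      inv_mem' := by
        rintro y (hy | hy)
        · exact Or.inl (P.inv_mem hy)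
        · right
          have h1 := hg _ hy
          have h2 : (g * y)⁻¹ = g * y⁻¹ := by
            rw [mul_inv_rev]
            have h3 : g⁻¹ = g := inv_eq_of_mul_eq_one_left gg
            have h4 : g * y = y * g := by
              have h5 : g * y * g = y := by rw [h1, hgg]
              calc g * y = g * y * (g * g) := by rw [gg, mul_one]
                _ = (g * y * g) * g := by group
                _ = y * g := by rw [h5]
            rw [h3]
            have h6 : (g * y)⁻¹ = (y * g)⁻¹ := by rw [h4]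
            rw [mul_inv_rev, mul_inv_rev, h3] at h6
            exact h6
          change g * y⁻¹ ∈ P
          rw [← h2]
          exact P.inv_mem hy }
  have hle : P ≤ P' := fun y hy => Or.inl hy
  have hgP' : g ∈ P' := Or.inr (by rw [gg]; exact P.one_mem)
  refine ⟨P', ?_, fun y => Iff.rfl⟩
  have h2 : (P.subgroupOf P').index = 2 := by
    rw [Subgroup.index_eq_two_iff]
    refine ⟨⟨g, hgP'⟩, fun b => ?_⟩
    rw [mem_subgroupOf, mem_subgroupOf]
    change Xor ((b : K) * g ∈ P) ((b : K) ∈ P)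
    rcases b with ⟨b, hb | hb⟩
    · right
      refine ⟨hb, fun h => n1 ?_⟩
      have := P.mul_mem (P.inv_mem hb) h
      rwa [inv_mul_cancel_left] at this
    · left
      have h1 := hg _ hb
      have h5 : b * g = g * b := by
        have h6 : g * b * g = b := by rw [h1, hgg]
        calc b * g = g * b * g * g := by rw [h6]
          _ = g * b * (g * g) := by group
          _ = g * b := by rw [gg, mul_one]
      refine ⟨by change b * g ∈ P; rw [h5]; exact hb, fun h => n1 ?_⟩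
      have := P.mul_mem hb (P.inv_mem h)
      rwa [mul_inv_cancel_right] at this
  have h3 := (P.subgroupOf P').card_mul_index
  rw [h2, Nat.card_congr (Subgroup.subgroupOfEquivOfLe hle).toEquiv] at h3
  rw [← h3, mul_comm]

/-- adjoining a four-group -/
theorem quad {P : Subgroup K} {g h : K} (gg : g * g = 1) (hh : h * h = 1) (gh : g * h = h * g)
    (hg : ∀ p ∈ P, p * g = g * p) (hh' : ∀ p ∈ P, p * h = h * p) (n1 : g ∉ P) (n2 : h ∉ P) (n3 : g * h ∉ P) :
    ∃ P' : Subgroup K, Nat.card ↥P' = 4 * Nat.card ↥P ∧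
      ∀ y, y ∈ P' ↔ y ∈ P ∨ g * y ∈ P ∨ h * y ∈ P ∨ g * h * y ∈ P := by
  obtain ⟨P1, c1, m1⟩ := double gg hg n1
  have hc : ∀ p ∈ P1, p * h = h * p := by
    intro p hp
    rcases (m1 p).1 hp with hp | hp
    · exact hh' p hp
    · have h1 := hh' _ hp
      have h2 : g * (p * h) = g * (h * p) := by
        rw [← mul_assoc, h1, ← mul_assoc, ← gh, mul_assoc]
      exact mul_left_cancel h2
  obtain ⟨P2, c2, m2⟩ := double hh hc (by
    intro h1
    rcases (m1 _).1 h1 with h1 | h1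
    · exact n2 h1
    · exact n3 h1)
  refine ⟨P2, by rw [c2, c1]; ring, fun y => ?_⟩
  rw [m2, m1, m1, ← mul_assoc, or_assoc]

end gen

/-! ### the number of transpositions commuting with two commuting transpositions -/

section Ctx

variable {K : Type v} [Group K] {T : Set K} (C : Ctx K T)
include C

theorem lam {a c0 : K} (ha : a ∈ T) (hc0T : c0 ∈ T) (hne : c0 ≠ a) (hac : a * c0 = c0 * a) :
    ∃ j, {c | c ∈ T ∧ c ≠ a ∧ c ≠ c0 ∧ a * c = c * a ∧ c0 * c = c * c0}.ncard + 256 * j = 692 := by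
  classical
  have := C.finite
  have : Fintype K := Fintype.ofFinite K
  obtain ⟨b, hb, hab⟩ := C.exists_far ha
  set N1 : Set K := {c | c ∈ T ∧ c ≠ a ∧ a * c = c * a} with hN1
  set N2 : Set K := {e | e ∈ T ∧ a * e ≠ e * a} with hN2
  set m := {c | c ∈ T ∧ a * c = c * a ∧ b * c = c * b}.ncard with hm
  have c1 : N1.ncard = 693 := C.link a ha
  have c2 : N2.ncard = 2816 := C.far ha
  -- `μ`
  have hmu : ∀ e ∈ N2, {c | c ∈ N1 ∧ e * c = c * e}.ncard = m := by
    rintro e ⟨he, hae⟩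
    obtain ⟨g, hg1, hg2⟩ := C.transN a ha b hb a ha e he hab hae
    rw [hm]
    symm
    apply ncard_conj g
    intro x
    constructor
    · rintro ⟨hx, h1, h2⟩
      refine ⟨⟨C.conj x hx g, fun h => ?_, ?_⟩, ?_⟩
      · have h3 : x = a := by
          have : g * x * g⁻¹ = g * a * g⁻¹ := by rw [h, hg1]
          exact mul_left_cancel (mul_right_cancel this)
        apply hab
        rw [← h3]
        exact h2.symm
      · have := (conj_comm_iff g a x).2 h1
        rwa [hg1] at this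
      · have := (conj_comm_iff g b x).2 h2
        rwa [hg2] at this
    · rintro ⟨⟨hx, -, h1⟩, h2⟩
      refine ⟨(C.conj_iff g).1 hx, (conj_comm_iff g a x).1 ?_, (conj_comm_iff g b x).1 ?_⟩
      · rwa [hg1]
      · rwa [hg2]
  -- `k`
  have hc0 : c0 ∈ N1 := ⟨hc0T, hne, hac⟩
  have hk : ∀ c ∈ N1, {e | e ∈ N2 ∧ e * c = c * e}.ncard = {e | e ∈ N2 ∧ e * c0 = c0 * e}.ncard := by
    rintro c ⟨hc, hca, hac⟩
    obtain ⟨g, hg1, hg2⟩ := C.transC a ha c hc a ha c0 hc0.1 hca.symm hc0.2.1.symm hac hc0.2.2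
    apply ncard_conj g
    intro x
    have e1 := conj_comm_iff g a x
    have e2 := conj_comm_iff g x c
    rw [hg1] at e1
    rw [hg2] at e2
    constructor
    · rintro ⟨⟨hx, h1⟩, h2⟩
      exact ⟨⟨C.conj x hx g, fun h => h1 (e1.1 h)⟩, e2.2 h2⟩
    · rintro ⟨⟨hx, h1⟩, h2⟩
      exact ⟨⟨(C.conj_iff g).1 hx, fun h => h1 (e1.2 h)⟩, e2.1 h2⟩
  set k := {e | e ∈ N2 ∧ e * c0 = c0 * e}.ncard with hkdef
  set l := {c | c ∈ T ∧ c ≠ a ∧ c ≠ c0 ∧ a * c = c * a ∧ c0 * c = c * c0}.ncard with hldef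
  have hlk : 1 + l + k = 693 := by
    rw [← C.link c0 hc0T]
    have h1 : {c | c ∈ T ∧ c ≠ c0 ∧ c0 * c = c * c0} =
        insert a ({c | c ∈ T ∧ c ≠ a ∧ c ≠ c0 ∧ a * c = c * a ∧ c0 * c = c * c0} ∪ {e | e ∈ N2 ∧ e * c0 = c0 * e}) := by
      ext y
      constructor
      · rintro ⟨hy, hy1, hy2⟩
        by_cases h2 : y = a
        · exact Or.inl h2
        by_cases h3 : a * y = y * a
        · exact Or.inr (Or.inl ⟨hy, h2, hy1, h3, hy2⟩)
        · exact Or.inr (Or.inr ⟨⟨hy, h3⟩, hy2.symm⟩)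
      · rintro (rfl | ⟨h1, h2, h3, h4, h5⟩ | ⟨⟨h1, h2⟩, h3⟩)
        · exact ⟨ha, hne.symm, hac.symm⟩
        · exact ⟨h1, h3, h5⟩
        · refine ⟨h1, ?_, h3.symm⟩
          rintro rfl
          exact h2 hac
    rw [h1, Set.ncard_insert_of_notMem _ (Set.toFinite _), Set.ncard_union_eq _ (Set.toFinite _) (Set.toFinite _)]
    · rw [← hldef, ← hkdef]
      ring
    · rw [Set.disjoint_left]
      rintro y ⟨-, -, -, h2, -⟩ ⟨⟨-, h3⟩, -⟩
      exact h3 h2
    · rintro (⟨-, h2, -⟩ | ⟨⟨-, h2⟩, -⟩)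
      · exact h2 rfl
      · exact h2 rfl
  -- double counting
  have hdc : 693 * k = 2816 * m := by
    have h1 := Finset.sum_card_bipartiteAbove_eq_sum_card_bipartiteBelow (s := N1.toFinset) (t := N2.toFinset)
      (fun c e : K => e * c = c * e)
    have h2 : ∀ c ∈ N1.toFinset, (N2.toFinset.bipartiteAbove (fun c e : K => e * c = c * e) c).card = k := by
      intro c hc
      rw [← hk c (Set.mem_toFinset.1 hc), Set.ncard_eq_toFinset_card']
      congr 1
      ext e
      simp [Finset.bipartiteAbove]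
    have h3 : ∀ e ∈ N2.toFinset, (N1.toFinset.bipartiteBelow (fun c e : K => e * c = c * e) e).card = m := by
      intro e he
      rw [← hmu e (Set.mem_toFinset.1 he), Set.ncard_eq_toFinset_card']
      congr 1
      ext c
      simp [Finset.bipartiteBelow]
    rw [Finset.sum_congr rfl h2, Finset.sum_congr rfl h3, Finset.sum_const, Finset.sum_const,
      ← Set.ncard_eq_toFinset_card', ← Set.ncard_eq_toFinset_card', c1, c2, smul_eq_mul, smul_eq_mul] at h1
    exact h1
  exact ⟨k / 256, by omega⟩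

/-- the centralizer of three commuting transpositions -/
theorem card_cent_tri (Fa : TFacts T) {a b c : K} (h : Tri T a b c) :
    Nat.card ↥(centralizer ({a} : Set K) ⊓ centralizer ({b} : Set K) ⊓ centralizer ({c} : Set K)) = 147456 := by
  have := C.finite
  have h1 := orbit_card (centralizer ({a} : Set K)) b (S := {c | c ∈ T ∧ c ≠ a ∧ a * c = c * a}) (by
    intro x
    constructor
    · rintro ⟨hx, hxa, hax⟩
      obtain ⟨g, hg1, hg2⟩ := C.transC a h.mx b h.my a h.mx x hx h.xy hxa.symm h.cxy hax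
      exact ⟨g, mem_centralizer_singleton_iff.2 (mul_inv_eq_iff_eq_mul.1 hg1), hg2.symm⟩
    · rintro ⟨g, hg, rfl⟩
      have h2 : g * a * g⁻¹ = a := mul_inv_eq_iff_eq_mul.2 (mem_centralizer_singleton_iff.1 hg)
      refine ⟨C.conj b h.my g, fun h3 => h.xy ?_, ?_⟩
      · rw [← h2] at h3
        exact (mul_left_cancel (mul_right_cancel h3)).symm
      · have h3 := (conj_comm_iff g a b).2 h.cxy
        rwa [h2] at h3)
  have h2 := orbit_card (centralizer ({a} : Set K) ⊓ centralizer ({b} : Set K)) c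
    (S := {c | c ∈ T ∧ c ≠ a ∧ c ≠ b ∧ a * c = c * a ∧ b * c = c * b}) (by
    intro x
    constructor
    · rintro ⟨hx, hxa, hxb, hax, hbx⟩
      obtain ⟨g, hg1, hg2, hg3⟩ := Fa.tri a b c a b x h ⟨h.mx, h.my, hx, h.xy, hxa.symm, hxb.symm, h.cxy, hax, hbx⟩
      exact ⟨g, ⟨mem_centralizer_singleton_iff.2 (mul_inv_eq_iff_eq_mul.1 hg1),
        mem_centralizer_singleton_iff.2 (mul_inv_eq_iff_eq_mul.1 hg2)⟩, hg3.symm⟩
    · rintro ⟨g, ⟨hg, hg'⟩, rfl⟩
      have h2 : g * a * g⁻¹ = a := mul_inv_eq_iff_eq_mul.2 (mem_centralizer_singleton_iff.1 hg)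
      have h2' : g * b * g⁻¹ = b := mul_inv_eq_iff_eq_mul.2 (mem_centralizer_singleton_iff.1 hg')
      refine ⟨C.conj c h.mw g, fun h3 => h.xw ?_, fun h3 => h.yw ?_, ?_, ?_⟩
      · rw [← h2] at h3
        exact (mul_left_cancel (mul_right_cancel h3)).symm
      · rw [← h2'] at h3
        exact (mul_left_cancel (mul_right_cancel h3)).symm
      · have h3 := (conj_comm_iff g a c).2 h.cxw
        rwa [h2] at h3
      · have h3 := (conj_comm_iff g b c).2 h.cyw
        rwa [h2'] at h3)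
  rw [C.link a h.mx, C.card_cent h.mx] at h1
  obtain ⟨j, hj⟩ := lam C h.mx h.my h.xy.symm h.cxy
  have h3 : Nat.card ↥(centralizer ({a} : Set K) ⊓ centralizer ({b} : Set K)) = 26542080 := by omega
  rw [h3] at h2
  generalize Nat.card ↥(centralizer ({a} : Set K) ⊓ centralizer ({b} : Set K) ⊓ centralizer ({c} : Set K)) = N at *
  generalize {c | c ∈ T ∧ c ≠ a ∧ c ≠ b ∧ a * c = c * a ∧ b * c = c * b}.ncard = l at *
  have h4 : j ≤ 2 := by omega
  interval_cases j
  · have h5 : l = 692 := by omega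
    rw [h5] at h2
    omega
  · have h5 : l = 436 := by omega
    rw [h5] at h2
    omega
  · have h5 : l = 180 := by omega
    rw [h5] at h2
    omega

theorem cent_tri (Fa : TFacts T) {a b c : K} (h : Tri T a b c) :
    ¬ 2 ^ 15 ∣ Nat.card ↥(centralizer ({a} : Set K) ⊓ centralizer ({b} : Set K) ⊓ centralizer ({c} : Set K)) := by
  rw [card_cent_tri C Fa h]
  norm_num

end Ctx

/-! ### six commuting transpositions, permuted in two cycles by `x` -/

section Six

variable {K : Type v} [Group K] {T : Set K}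

/-- two disjoint triples of commuting transpositions, permuted cyclically by `x` -/
structure Six (T : Set K) (x a b c d e f : K) : Prop where
  t : Tri T a b c
  t' : Tri T d e f
  ad : a ≠ d
  ae : a ≠ e
  af : a ≠ f
  bd : b ≠ d
  be : b ≠ e
  bf : b ≠ f
  cd : c ≠ d
  ce : c ≠ e
  cf : c ≠ f
  kad : a * d = d * a
  kae : a * e = e * a
  kaf : a * f = f * a
  kbd : b * d = d * b
  kbe : b * e = e * b
  kbf : b * f = f * b
  kcd : c * d = d * c
  kce : c * e = e * c
  kcf : c * f = f * c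
  xa : x * a * x⁻¹ = b
  xb : x * b * x⁻¹ = c
  xc : x * c * x⁻¹ = a
  xd : x * d * x⁻¹ = e
  xe : x * e * x⁻¹ = f
  xf : x * f * x⁻¹ = d

theorem tri_rot {a b c : K} (h : Tri T a b c) : Tri T b c a :=
  ⟨h.my, h.mw, h.mx, h.yw, h.xy.symm, h.xw.symm, h.cyw, h.cxy.symm, h.cxw.symm⟩

theorem Six.rot {x a b c d e f : K} (h : Six T x a b c d e f) : Six T x b c a d e f :=
  ⟨tri_rot h.t, h.t', h.bd, h.be, h.bf, h.cd, h.ce, h.cf, h.ad, h.ae, h.af, h.kbd, h.kbe, h.kbf, h.kcd, h.kce, h.kcf,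
    h.kad, h.kae, h.kaf, h.xb, h.xc, h.xa, h.xd, h.xe, h.xf⟩

theorem Six.rot' {x a b c d e f : K} (h : Six T x a b c d e f) : Six T x a b c e f d :=
  ⟨h.t, tri_rot h.t', h.ae, h.af, h.ad, h.be, h.bf, h.bd, h.ce, h.cf, h.cd, h.kae, h.kaf, h.kad, h.kbe, h.kbf, h.kbd,
    h.kce, h.kcf, h.kcd, h.xa, h.xb, h.xc, h.xe, h.xf, h.xd⟩

theorem Six.swap {x a b c d e f : K} (h : Six T x a b c d e f) : Six T x d e f a b c :=
  ⟨h.t', h.t, h.ad.symm, h.bd.symm, h.cd.symm, h.ae.symm, h.be.symm, h.ce.symm, h.af.symm, h.bf.symm, h.cf.symm,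
    h.kad.symm, h.kbd.symm, h.kcd.symm, h.kae.symm, h.kbe.symm, h.kce.symm, h.kaf.symm, h.kbf.symm, h.kcf.symm,
    h.xd, h.xe, h.xf, h.xa, h.xb, h.xc⟩

/-- `a b` does not commute with `x` -/
theorem Six.two {x a b c d e f : K} (h : Six T x a b c d e f) : x * (a * b) ≠ a * b * x := by
  intro hc
  have h1 : x * (a * b) * x⁻¹ = b * c := by
    calc x * (a * b) * x⁻¹ = (x * a * x⁻¹) * (x * b * x⁻¹) := by group
      _ = b * c := by rw [h.xa, h.xb]
  rw [hc, mul_inv_cancel_right, h.t.cxy] at h1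
  exact h.t.xw (mul_left_cancel h1)

/-- `a b d e` does not commute with `x` -/
theorem Six.four (Fa : TFacts T) {x a b c d e f : K} (h : Six T x a b c d e f) :
    x * (a * b * (d * e)) ≠ a * b * (d * e) * x := by
  intro hc
  have h1 : x * (a * b * (d * e)) * x⁻¹ = b * c * (e * f) := by
    calc x * (a * b * (d * e)) * x⁻¹ = (x * a * x⁻¹) * (x * b * x⁻¹) * ((x * d * x⁻¹) * (x * e * x⁻¹)) := by group
      _ = b * c * (e * f) := by rw [h.xa, h.xb, h.xd, h.xe]
  rw [hc, mul_inv_cancel_right] at h1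
  -- `a b d e = b c e f`
  have h2 : b * (a * (e * d)) = b * (c * (e * f)) := by
    calc b * (a * (e * d)) = b * a * (e * d) := by group
      _ = a * b * (d * e) := by rw [h.t.cxy, h.t'.cxy]
      _ = b * c * (e * f) := h1
      _ = _ := by group
  have h3 := mul_left_cancel h2
  have h4 : e * (a * d) = e * (c * f) := by
    calc e * (a * d) = e * a * d := by group
      _ = a * e * d := by rw [h.kae]
      _ = a * (e * d) := by group
      _ = c * (e * f) := h3
      _ = c * e * f := by group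
      _ = e * c * f := by rw [h.kce]
      _ = _ := by group
  have h5 := mul_left_cancel h4
  -- `a = c f d`
  have h6 : a = c * f * d := by
    rw [← h5, mul_assoc, Fa.sq d h.t'.mx, mul_one]
  refine Fa.prod c f d ⟨h.t.mw, h.t'.mw, h.t'.mx, h.cf, h.cd, h.t'.xw.symm, h.kcf, h.kcd, h.t'.cxw.symm⟩ ?_
  rw [← h6]
  exact h.t.mx

/-- a subgroup centralizing `x` and the six transpositions -/
theorem Six.card [Finite K] (Fa : TFacts T) {x a b c d e f : K} (h : Six T x a b c d e f) {P : Subgroup K}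
    (hx : ∀ p ∈ P, p * x = x * p) (ha : ∀ p ∈ P, p * a = a * p) (hb : ∀ p ∈ P, p * b = b * p)
    (hc : ∀ p ∈ P, p * c = c * p) (hd : ∀ p ∈ P, p * d = d * p) (he : ∀ p ∈ P, p * e = e * p)
    (hf : ∀ p ∈ P, p * f = f * p) : 16 * Nat.card ↥P ∣
      Nat.card ↥(centralizer ({a} : Set K) ⊓ centralizer ({b} : Set K) ⊓ centralizer ({c} : Set K)) := by
  have aa := Fa.sq a h.t.mx
  have bb := Fa.sq b h.t.my
  have cc := Fa.sq c h.t.mw
  have dd := Fa.sq d h.t'.mx
  have ee := Fa.sq e h.t'.my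
  have ff := Fa.sq f h.t'.mw
  have sq : ∀ {u v : K}, u * u = 1 → v * v = 1 → u * v = v * u → (u * v) * (u * v) = 1 := by
    intro u v hu hv huv
    calc (u * v) * (u * v) = u * (v * u) * v := by group
      _ = (u * u) * (v * v) := by rw [← huv]; group
      _ = 1 := by rw [hu, hv, one_mul]
  have cm : ∀ {p u v : K}, p * u = u * p → p * v = v * p → p * (u * v) = u * v * p := by
    intro p u v hu hv
    rw [← mul_assoc, hu, mul_assoc, hv, mul_assoc]
  have cm' : ∀ {p u v : K}, u * p = p * u → v * p = p * v → u * v * p = p * (u * v) := by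
    intro p u v hu hv
    exact (cm hu.symm hv.symm).symm
  have g12 : a * b * (b * c) = c * a := by
    calc a * b * (b * c) = a * (b * b) * c := by group
      _ = c * a := by rw [bb, mul_one, h.t.cxw]
  have g34 : d * e * (e * f) = f * d := by
    calc d * e * (e * f) = d * (e * e) * f := by group
      _ = f * d := by rw [ee, mul_one, h.t'.cxw]
  have nx : ∀ {y : K}, x * y ≠ y * x → y ∉ P := fun hy hp => hy (hx _ hp).symm
  obtain ⟨P1, e1, m1⟩ := quad (P := P) (g := a * b) (h := b * c) (sq aa bb h.t.cxy) (sq bb cc h.t.cyw)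
    (cm (cm' h.t.cxy (rfl : b * b = b * b)) (cm' h.t.cxw h.t.cyw)) (fun p hp => cm (ha p hp) (hb p hp))
    (fun p hp => cm (hb p hp) (hc p hp)) (nx h.two) (nx h.rot.two) (by
      rw [g12]
      exact nx h.rot.rot.two)
  have com : ∀ {z : K}, (∀ p ∈ P, p * z = z * p) → a * z = z * a → b * z = z * b → c * z = z * c →
      ∀ p ∈ P1, p * z = z * p := by
    intro z hz za zb zc p hp
    rw [m1] at hp
    have key : ∀ {w : K}, w * w = 1 → w * z = z * w → w * p ∈ P → p * z = z * p := by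
      intro w hw hwz hwp
      have h1 : w * (w * p) = p := by rw [← mul_assoc, hw, one_mul]
      rw [← h1]
      exact cm' hwz (hz _ hwp)
    rcases hp with hp | hp | hp | hp
    · exact hz p hp
    · exact key (sq aa bb h.t.cxy) (cm' za zb) hp
    · exact key (sq bb cc h.t.cyw) (cm' zb zc) hp
    · rw [g12] at hp
      exact key (sq cc aa h.t.cxw.symm) (cm' zc za) hp
  have nP1 : ∀ {u v w : K}, Six T x a b c u v w → u * v ∉ P1 := by
    intro u v w hs hp
    rw [m1] at hp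
    rcases hp with hp | hp | hp | hp
    · exact nx hs.swap.two hp
    · exact nx (hs.four Fa) hp
    · exact nx (hs.rot.four Fa) hp
    · rw [g12] at hp
      exact nx (hs.rot.rot.four Fa) hp
  obtain ⟨P2, e2, m2⟩ := quad (P := P1) (g := d * e) (h := e * f) (sq dd ee h.t'.cxy) (sq ee ff h.t'.cyw)
    (cm (cm' h.t'.cxy (rfl : e * e = e * e)) (cm' h.t'.cxw h.t'.cyw))
    (fun p hp => cm (com hd h.kad h.kbd h.kcd p hp) (com he h.kae h.kbe h.kce p hp))
    (fun p hp => cm (com he h.kae h.kbe h.kce p hp) (com hf h.kaf h.kbf h.kcf p hp))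
    (nP1 h) (nP1 h.rot') (by
      rw [g34]
      exact nP1 h.rot'.rot')
  have com2 : ∀ {z : K}, (∀ p ∈ P1, p * z = z * p) → d * z = z * d → e * z = z * e → f * z = z * f →
      ∀ p ∈ P2, p * z = z * p := by
    intro z hz zd ze zf p hp
    rw [m2] at hp
    have key : ∀ {w : K}, w * w = 1 → w * z = z * w → w * p ∈ P1 → p * z = z * p := by
      intro w hw hwz hwp
      have h1 : w * (w * p) = p := by rw [← mul_assoc, hw, one_mul]
      rw [← h1]
      exact cm' hwz (hz _ hwp)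
    rcases hp with hp | hp | hp | hp
    · exact hz p hp
    · exact key (sq dd ee h.t'.cxy) (cm' zd ze) hp
    · exact key (sq ee ff h.t'.cyw) (cm' ze zf) hp
    · rw [g34] at hp
      exact key (sq ff dd h.t'.cxw.symm) (cm' zf zd) hp
  have hle : P2 ≤ centralizer ({a} : Set K) ⊓ centralizer ({b} : Set K) ⊓ centralizer ({c} : Set K) := by
    intro p hp
    exact ⟨⟨mem_centralizer_singleton_iff.2
        (com2 (com ha rfl h.t.cxy.symm h.t.cxw.symm) h.kad.symm h.kae.symm h.kaf.symm p hp),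
      mem_centralizer_singleton_iff.2
        (com2 (com hb h.t.cxy rfl h.t.cyw.symm) h.kbd.symm h.kbe.symm h.kbf.symm p hp)⟩,
      mem_centralizer_singleton_iff.2
        (com2 (com hc h.t.cxw h.t.cyw rfl) h.kcd.symm h.kce.symm h.kcf.symm p hp)⟩
  have h3 := Subgroup.card_dvd_of_le hle
  rw [e2, e1] at h3
  refine (dvd_of_eq ?_).trans h3
  ring

end Six

/-! ### the 2-part of the centralizer of an element of order three -/

section Main

variable {K : Type v} [Group K] {T : Set K}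

theorem hex_conj (Fa : TFacts T) {a b c a' b' c' : K} (H : Hex T a b c a' b' c') (g : K) :
    Hex T (g * a * g⁻¹) (g * b * g⁻¹) (g * c * g⁻¹) (g * a' * g⁻¹) (g * b' * g⁻¹) (g * c' * g⁻¹) := by
  have ne : ∀ {u v : K}, u ≠ v → g * u * g⁻¹ ≠ g * v * g⁻¹ := by
    intro u v h h1
    exact h (mul_left_cancel (mul_right_cancel h1))
  have cm : ∀ {u v : K}, u * v = v * u → g * u * g⁻¹ * (g * v * g⁻¹) = g * v * g⁻¹ * (g * u * g⁻¹) :=
    fun {u v} h => (conj_comm_iff g u v).2 h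
  have tri : ∀ {u v w : K}, Tri T u v w → Tri T (g * u * g⁻¹) (g * v * g⁻¹) (g * w * g⁻¹) := by
    intro u v w h
    exact ⟨Fa.conj g u h.mx, Fa.conj g v h.my, Fa.conj g w h.mw, ne h.xy, ne h.xw, ne h.yw, cm h.cxy, cm h.cxw,
      cm h.cyw⟩
  refine ⟨tri H.t, tri H.t', ne H.aa, ne H.ab, ne H.ac, ne H.ba, ne H.bb, ne H.bc, ne H.ca, ne H.cb, ne H.cc,
    cm H.caa, cm H.cab, cm H.cac, cm H.cba, cm H.cbb, cm H.cbc, cm H.cca, cm H.ccb, cm H.ccc, ?_⟩
  calc g * a * g⁻¹ * (g * b * g⁻¹) * (g * c * g⁻¹) * (g * a' * g⁻¹ * (g * b' * g⁻¹) * (g * c' * g⁻¹))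
      = g * (a * b * c * (a' * b' * c')) * g⁻¹ := by group
    _ = 1 := by rw [H.prod, mul_one, mul_inv_cancel]

theorem hex_rot {a b c a' b' c' : K} (H : Hex T b c a a' b' c') : Hex T a b c a' b' c' := by
  refine ⟨tri_rot (tri_rot H.t), H.t', H.ca, H.cb, H.cc, H.aa, H.ab, H.ac, H.ba, H.bb, H.bc, H.cca, H.ccb, H.ccc,
    H.caa, H.cab, H.cac, H.cba, H.cbb, H.cbc, ?_⟩
  rw [← H.prod]
  congr 1
  calc a * b * c = b * a * c := by rw [H.t.cxw]
    _ = b * (a * c) := by group
    _ = b * (c * a) := by rw [H.t.cyw]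
    _ = _ := by group

/-- **the 2-part of the centralizer of an element of order three is at most `2 ^ 11`** -/
theorem three_two (C : Ctx K T) (Fa : TFacts T)
    (hten : ∀ d ∈ T, ∀ x : K, x ^ 3 = 1 → x ≠ 1 → x * d = d * x → ∀ (P : Subgroup K) (m : ℕ), Nat.card ↥P = 2 ^ m →
      (∀ p ∈ P, p * d = d * p) → (∀ p ∈ P, p * x = x * p) → m ≤ 10)
    {x : K} (hx : x ^ 3 = 1) (hx1 : x ≠ 1) : ¬ 2 ^ 12 ∣ Nat.card ↥(centralizer ({x} : Set K)) := by
  classical
  intro hdvd
  have := C.finite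
  have : Fact (Nat.Prime 2) := ⟨Nat.prime_two⟩
  obtain ⟨Q, hQ⟩ := Sylow.exists_subgroup_card_pow_prime (G := ↥(centralizer ({x} : Set K))) 2 hdvd
  obtain ⟨P, hP, hPx⟩ : ∃ P : Subgroup K, Nat.card ↥P = 2 ^ 12 ∧ ∀ p ∈ P, p * x = x * p := by
    refine ⟨Q.map (centralizer ({x} : Set K)).subtype, ?_, ?_⟩
    · rw [card_map_of_injective (Subgroup.subtype_injective _), hQ]
    · rintro _ ⟨g, -, rfl⟩
      exact mem_centralizer_singleton_iff.1 g.2
  -- conjugation by `P` and `x`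
  have pc : ∀ p ∈ P, ∀ s : K, x * (p * s * p⁻¹) * x⁻¹ = p * (x * s * x⁻¹) * p⁻¹ := by
    intro p hp s
    have h1 := hPx p hp
    have h2 : p⁻¹ * x⁻¹ = x⁻¹ * p⁻¹ := by rw [← mul_inv_rev, ← mul_inv_rev, h1]
    calc x * (p * s * p⁻¹) * x⁻¹ = (x * p) * s * (p⁻¹ * x⁻¹) := by group
      _ = (p * x) * s * (x⁻¹ * p⁻¹) := by rw [h1, h2]
      _ = _ := by group
  have cmx : ∀ s : K, x * s * x⁻¹ = s ↔ x * s = s * x := fun s => mul_inv_eq_iff_eq_mul
  set T1 : Set K := {s | s ∈ T ∧ x * s = s * x} with hT1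
  set T2 : Set K := {s | s ∈ T ∧ x * s ≠ s * x ∧ s * (x * s * x⁻¹) = x * s * x⁻¹ * s} with hT2
  set T3 : Set K := {s | s ∈ T ∧ s * (x * s * x⁻¹) ≠ x * s * x⁻¹ * s} with hT3
  have hT : T = T1 ∪ (T2 ∪ T3) := by
    ext s
    constructor
    · intro hs
      by_cases h1 : x * s = s * x
      · exact Or.inl ⟨hs, h1⟩
      · by_cases h2 : s * (x * s * x⁻¹) = x * s * x⁻¹ * s
        · exact Or.inr (Or.inl ⟨hs, h1, h2⟩)
        · exact Or.inr (Or.inr ⟨hs, h2⟩)
    · rintro (⟨hs, -⟩ | ⟨hs, -⟩ | ⟨hs, -⟩) <;> exact hs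
  have hcard : T1.ncard + (T2.ncard + T3.ncard) = 3510 := by
    rw [← C.ncard]
    conv_rhs => rw [hT]
    rw [Set.ncard_union_eq _ (Set.toFinite _) (Set.toFinite _), Set.ncard_union_eq _ (Set.toFinite _) (Set.toFinite _)]
    · rw [Set.disjoint_left]
      rintro s ⟨-, -, h1⟩ ⟨-, h2⟩
      exact h2 h1
    · rw [Set.disjoint_left]
      rintro s ⟨-, h1⟩ (⟨-, h2, -⟩ | ⟨-, h2⟩)
      · exact h2 h1
      · rw [(cmx s).2 h1] at h2
        exact h2 rfl
  -- stabilizers are 2-groups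
  have hpow : ∀ s : K, ∃ i, Nat.card ↥(P ⊓ centralizer ({s} : Set K)) = 2 ^ i := by
    intro s
    have h1 := Subgroup.card_dvd_of_le (inf_le_left : P ⊓ centralizer ({s} : Set K) ≤ P)
    rw [hP] at h1
    obtain ⟨i, -, hi⟩ := (Nat.dvd_prime_pow Nat.prime_two).1 h1
    exact ⟨i, hi⟩
  have hquot : ∀ n i k : ℕ, i + k ≤ 12 → n * 2 ^ i = 2 ^ 12 → 2 ^ k ∣ n := by
    intro n i k hik hn
    have h1 : n * 2 ^ i = 2 ^ (12 - i) * 2 ^ i := by
      rw [hn, ← pow_add]
      congr 1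
      omega
    have h2 : n = 2 ^ (12 - i) := Nat.eq_of_mul_eq_mul_right (by positivity) h1
    rw [h2]
    exact pow_dvd_pow 2 (by omega)
  have d1 : 4 ∣ T1.ncard := by
    refine dvd_ncard (P := P) ?_ ?_
    · rintro g hg s ⟨hs, hxs⟩
      refine ⟨C.conj s hs g, ?_⟩
      rw [← cmx, pc g hg, (cmx s).2 hxs]
    · rintro s ⟨hs, hxs⟩ n hn
      obtain ⟨i, hi⟩ := hpow s
      rw [hi, hP] at hn
      have h1 := hten s hs x hx hx1 hxs _ i hi (fun p hp => mem_centralizer_singleton_iff.1 hp.2) (fun p hp => hPx p hp.1)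
      exact hquot n i 2 (by omega) hn
  have d3 : 4 ∣ T3.ncard := by
    refine dvd_ncard (P := P) ?_ ?_
    · rintro g hg s ⟨hs, hxs⟩
      refine ⟨C.conj s hs g, ?_⟩
      rw [pc g hg]
      exact fun h => hxs ((conj_comm_iff g _ _).1 h)
    · rintro s ⟨hs, hxs⟩ n hn
      obtain ⟨i, hi⟩ := hpow s
      rw [hi, hP] at hn
      have h1 : P ⊓ centralizer ({s} : Set K) ≤ centralizer ({s} : Set K) ⊓ centralizer ({x * s * x⁻¹} : Set K) := by
        intro p hp
        have hps := mem_centralizer_singleton_iff.1 hp.2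
        refine ⟨hp.2, mem_centralizer_singleton_iff.2 ?_⟩
        have h2 := pc p hp.1 s
        rw [mul_inv_eq_iff_eq_mul.2 hps] at h2
        exact mul_inv_eq_iff_eq_mul.1 h2.symm
      have h2 := Subgroup.card_dvd_of_le h1
      rw [C.card_cent_two hs (C.conj s hs x) hxs, hi] at h2
      have h3 : i ≤ 10 := by
        by_contra hcon
        have h4 : 2 ^ 11 ∣ 6531840 := (pow_dvd_pow 2 (by omega)).trans h2
        revert h4
        norm_num
      exact hquot n i 2 (by omega) hn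
  have d2 : ¬ 4 ∣ T2.ncard := by omega
  obtain ⟨a, ⟨haT, hxa, hab⟩, i, hi11, hi⟩ : ∃ a ∈ T2, ∃ i, 11 ≤ i ∧ Nat.card ↥(P ⊓ centralizer ({a} : Set K)) = 2 ^ i := by
    by_contra hcon
    push Not at hcon
    apply d2
    refine dvd_ncard (P := P) ?_ ?_
    · rintro g hg s ⟨hs, hxs, hxs'⟩
      refine ⟨C.conj s hs g, fun h => hxs ?_, ?_⟩
      · rw [← cmx, pc g hg] at h
        rw [← cmx]
        exact mul_left_cancel (mul_right_cancel h)
      · rw [pc g hg]
        exact (conj_comm_iff g _ _).2 hxs'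
    · intro s hs n hn
      obtain ⟨i, hi⟩ := hpow s
      rw [hi, hP] at hn
      have h1 : ¬ 11 ≤ i := fun h => hcon s hs i h hi
      exact hquot n i 2 (by omega) hn
  set P1 := P ⊓ centralizer ({a} : Set K) with hP1
  have hP1x : ∀ p ∈ P1, p * x = x * p := fun p hp => hPx p hp.1
  have hP1a : ∀ p ∈ P1, p * a = a * p := fun p hp => mem_centralizer_singleton_iff.1 hp.2
  have tr : ∀ {s : K}, (∀ p ∈ P1, p * s = s * p) → ∀ p ∈ P1, p * (x * s * x⁻¹) = x * s * x⁻¹ * p := by
    intro s hs p hp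
    have h2 := pc p hp.1 s
    rw [mul_inv_eq_iff_eq_mul.2 (hs p hp)] at h2
    exact mul_inv_eq_iff_eq_mul.1 h2.symm
  obtain ⟨b, hb⟩ : ∃ b, b = x * a * x⁻¹ := ⟨_, rfl⟩
  obtain ⟨c, hc⟩ : ∃ c, c = x * b * x⁻¹ := ⟨_, rfl⟩
  have x3 : ∀ s : K, x * (x * (x * s * x⁻¹) * x⁻¹) * x⁻¹ = s := by
    intro s
    have h3 : x * x * x = 1 := by rw [← hx, pow_succ, pow_two]
    calc x * (x * (x * s * x⁻¹) * x⁻¹) * x⁻¹ = (x * x * x) * s * (x * x * x)⁻¹ := by group
      _ = s := by rw [h3]; group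
  have hxc : x * c * x⁻¹ = a := by
    rw [hc, hb]
    exact x3 a
  rw [← hb] at hab
  have hP1b : ∀ p ∈ P1, p * b = b * p := by rw [hb]; exact tr hP1a
  have hP1c : ∀ p ∈ P1, p * c = c * p := by rw [hc]; exact tr hP1b
  have nab : a ≠ b := by
    intro h
    apply hxa
    rw [← cmx, ← hb, ← h]
  have nbc : b ≠ c := by
    intro h
    apply nab
    rw [hb, hc] at h
    exact mul_left_cancel (mul_right_cancel h)
  have nca : c ≠ a := by
    intro h
    apply nab
    rw [h, ← hb] at hxc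
    exact hxc.symm
  have cbc : b * c = c * b := by
    have := (conj_comm_iff x a b).2 hab
    rwa [← hb, ← hc] at this
  have cca : c * a = a * c := by
    have := (conj_comm_iff x b c).2 cbc
    rwa [← hc, hxc] at this
  have hbT : b ∈ T := by rw [hb]; exact C.conj a haT x
  have hcT : c ∈ T := by rw [hc]; exact C.conj b hbT x
  have htri : Tri T a b c := ⟨haT, hbT, hcT, nab, nca.symm, nbc, hab, cca.symm, cbc⟩
  obtain ⟨a', b', c', H⟩ := Fa.hex a b c htri
  -- the second half of the hexad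
  set S : Set K := {a', b', c'} with hS
  have hSuniq : ∀ {a'' b'' c'' : K}, Hex T a b c a'' b'' c'' → a'' ∈ S ∧ b'' ∈ S ∧ c'' ∈ S := by
    intro a'' b'' c'' H'
    obtain ⟨h1, h2, h3⟩ := Fa.uniq a b c a' b' c' a'' b'' c'' H H'
    exact ⟨h1, h2, h3⟩
  have hSP : ∀ p ∈ P1, ∀ s ∈ S, p * s * p⁻¹ ∈ S := by
    intro p hp
    have H' := hex_conj Fa H p
    rw [mul_inv_eq_iff_eq_mul.2 (hP1a p hp), mul_inv_eq_iff_eq_mul.2 (hP1b p hp), mul_inv_eq_iff_eq_mul.2 (hP1c p hp)]
      at H'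
    obtain ⟨h1, h2, h3⟩ := hSuniq H'
    rintro s (rfl | rfl | rfl)
    · exact h1
    · exact h2
    · exact h3
  have hSx : ∀ s ∈ S, x * s * x⁻¹ ∈ S := by
    have H' := hex_conj Fa H x
    rw [← hb, ← hc, hxc] at H'
    obtain ⟨h1, h2, h3⟩ := hSuniq (hex_rot H')
    rintro s (rfl | rfl | rfl)
    · exact h1
    · exact h2
    · exact h3
  have hScard : S.ncard = 3 := by
    rw [hS, Set.ncard_insert_of_notMem, Set.ncard_pair H.t'.yw]
    rintro (h | h)
    · exact H.t'.xy h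
    · exact H.t'.xw h
  obtain ⟨d, hdS, hPd⟩ : ∃ d ∈ S, ∀ p ∈ P1, p * d = d * p := by
    by_contra hcon
    push Not at hcon
    have h2 : 2 ∣ S.ncard := by
      refine dvd_ncard (P := P1) hSP ?_
      intro s hs n hn
      have h1 := Subgroup.card_dvd_of_le (inf_le_left : P1 ⊓ centralizer ({s} : Set K) ≤ P1)
      rw [hi] at h1
      obtain ⟨j, hj, hj'⟩ := (Nat.dvd_prime_pow Nat.prime_two).1 h1
      rw [hj', hi] at hn
      have h3 : j ≠ i := by
        rintro rfl
        obtain ⟨p, hp, hps⟩ := hcon s hs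
        apply hps
        have h4 : P1 ⊓ centralizer ({s} : Set K) = P1 :=
          Subgroup.eq_of_le_of_card_ge inf_le_left (by rw [hj', hi])
        rw [← h4] at hp
        exact mem_centralizer_singleton_iff.1 hp.2
      have h4 : n = 2 ^ (i - j) := by
        have h5 : n * 2 ^ j = 2 ^ (i - j) * 2 ^ j := by
          rw [hn, ← pow_add]
          congr 1
          omega
        exact Nat.eq_of_mul_eq_mul_right (by positivity) h5
      rw [h4]
      exact dvd_pow_self 2 (by omega)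
    rw [hScard] at h2
    omega
  have hST : ∀ s ∈ S, s ∈ T := by
    rintro s (rfl | rfl | rfl)
    · exact H.t'.mx
    · exact H.t'.my
    · exact H.t'.mw
  have hSn : ∀ s ∈ S, a ≠ s ∧ b ≠ s ∧ c ≠ s ∧ a * s = s * a ∧ b * s = s * b ∧ c * s = s * c := by
    rintro s (rfl | rfl | rfl)
    · exact ⟨H.aa, H.ba, H.ca, H.caa, H.cba, H.cca⟩
    · exact ⟨H.ab, H.bb, H.cb, H.cab, H.cbb, H.ccb⟩
    · exact ⟨H.ac, H.bc, H.cc, H.cac, H.cbc, H.ccc⟩
  have hSc : ∀ s ∈ S, ∀ t ∈ S, s * t = t * s := by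
    rintro s (rfl | rfl | rfl) t (rfl | rfl | rfl)
    · rfl
    · exact H.t'.cxy
    · exact H.t'.cxw
    · exact H.t'.cxy.symm
    · rfl
    · exact H.t'.cyw
    · exact H.t'.cxw.symm
    · exact H.t'.cyw.symm
    · rfl
  -- `x` does not commute with `d`
  have hxd : x * d ≠ d * x := by
    intro h
    have := hten d (hST d hdS) x hx hx1 h P1 i hi hPd hP1x
    omega
  obtain ⟨e, he⟩ : ∃ e, e = x * d * x⁻¹ := ⟨_, rfl⟩
  obtain ⟨f, hf⟩ : ∃ f, f = x * e * x⁻¹ := ⟨_, rfl⟩
  have hxf : x * f * x⁻¹ = d := by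
    rw [hf, he]
    exact x3 d
  have heS : e ∈ S := by rw [he]; exact hSx d hdS
  have hfS : f ∈ S := by rw [hf]; exact hSx e heS
  have nde : d ≠ e := by
    intro h
    apply hxd
    rw [← cmx, ← he, ← h]
  have nef : e ≠ f := by
    intro h
    apply nde
    rw [he, hf] at h
    exact mul_left_cancel (mul_right_cancel h)
  have nfd : f ≠ d := by
    intro h
    apply nde
    rw [h, ← he] at hxf
    exact hxf.symm
  have hP1e : ∀ p ∈ P1, p * e = e * p := by rw [he]; exact tr hPd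
  have hP1f : ∀ p ∈ P1, p * f = f * p := by rw [hf]; exact tr hP1e
  obtain ⟨q1, q2, q3, q4, q5, q6⟩ := hSn d hdS
  obtain ⟨r1, r2, r3, r4, r5, r6⟩ := hSn e heS
  obtain ⟨s1, s2, s3, s4, s5, s6⟩ := hSn f hfS
  have six : Six T x a b c d e f :=
    ⟨htri, ⟨hST d hdS, hST e heS, hST f hfS, nde, nfd.symm, nef, hSc d hdS e heS, hSc d hdS f hfS, hSc e heS f hfS⟩,
      q1, r1, s1, q2, r2, s2, q3, r3, s3, q4, r4, s4, q5, r5, s5, q6, r6, s6, hb.symm, hc.symm, hxc, he.symm, hf.symm,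
      hxf⟩
  have h16 := six.card Fa hP1x hP1a hP1b hP1c hPd hP1e hP1f
  apply cent_tri C Fa htri
  refine Dvd.dvd.trans ?_ h16
  rw [hi]
  calc (2 : ℕ) ^ 15 ∣ 2 ^ (4 + i) := pow_dvd_pow 2 (by omega)
    _ = 16 * 2 ^ i := by rw [pow_add]; norm_num

end Main

end Cfsg.Agent.H647.SpF.Fi22
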