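import Cfsg.Agent.LThreeFi22.Inst

/-!
# Two-groups centralizing an element of order three, for `Fi22` (helper647)

* `U.le_nine` : a 2-subgroup of `SU₆(2)` centralizing a non-scalar element of order three has order at most `2 ^ 9`;
* `le_ten` : a 2-subgroup of `Fi22` centralizing a transposition and an element of order three (which commute) has order
  at most `2 ^ 10`.
-/

set_option autoImplicit false

namespace Cfsg.Agent.H647.SpF.U

open Cfsg Cfsg.Agent.LieClassical.HermBasic Cfsg.Agent.LieClassical.HermSiegel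
  Cfsg.Agent.ClassicalGeometry.HermOrtho Cfsg.Agent.LThreeU7 Matrix Module
open Cfsg.Agent.LieClassical.HermGen
open Cfsg.Agent.LThreeFi22.Lin

variable {F : Type*} [Field F] [Fintype F] (hF : Fintype.card F = 2 ^ 2)

include hF

theorem not_five {A : SU 6 F 2} (hA : A ^ 3 = 1) {c : F} (hc3 : c ^ 3 = 1) : finrank F (E A c) ≠ 5 := by
  intro h5
  have hnd := nondeg hF hA (a := c)
  have hperp := finrank_hermPerp_of_nondeg hF (E A c) hnd
  have hp1 : finrank F (hermPerp 2 (E A c : Set (Fin 6 → F)) : Submodule F (Fin 6 → F)) = 1 := by omega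
  obtain ⟨b, hbW, hb⟩ := exists_orthonormal hF _ (hermPerp_nondeg hF _ hnd) hp1
  have hk : finrank F (hermPerp 2 (E A c : Set (Fin 6 → F)) : Submodule F (Fin 6 → F)) = Fintype.card (Fin 1) := by
    rw [hp1, Fintype.card_fin]
  have hpp : hermForm 6 F 2 (b 0) (b 0) = 1 := by rw [hb, if_pos rfl]
  have hAp : act A (b 0) ∈ (hermPerp 2 (E A c : Set (Fin 6 → F)) : Submodule F (Fin 6 → F)) := by
    intro v hv
    have hv' := mem_E.1 (SetLike.mem_coe.1 hv)
    have h10 := hbW 0 v hv
    have h11 := herm_act A (b 0) v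
    rw [hv', herm_smul_right, h10] at h11
    have hc0 := ne_zero_of_cube hc3
    rcases mul_eq_zero.1 h11 with h12 | h12
    · exact absurd h12 (pow_ne_zero 2 hc0)
    · exact h12
  have hAp1 := eq_sum_of_orthonormal _ hk hbW hb hAp
  rw [Fin.sum_univ_one] at hAp1
  set a := hermForm 6 F 2 (act A (b 0)) (b 0)
  have hAv : ∀ v, act A v = c • v + ((a - c) * hermForm 6 F 2 v (b 0)) • b 0 := by
    intro v
    obtain ⟨w, hw, u, hu, rfl⟩ := exists_add_perp hF (E A c) hnd v
    have hu1 := eq_sum_of_orthonormal _ hk hbW hb hu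
    rw [Fin.sum_univ_one] at hu1
    have hwb : hermForm 6 F 2 w (b 0) = 0 := herm_eq_zero_swap hF (hbW 0 w hw)
    rw [act_add, mem_E.1 hw, herm_add_left, hwb, zero_add]
    conv_lhs => rw [hu1, act_smul, hAp1]
    conv_rhs => rw [smul_add]
    conv_rhs => enter [1, 2]; rw [hu1]
    module
  -- determinant
  have hc0 := ne_zero_of_cube hc3
  have hdet : (mat A).det = 1 := A.1.2
  have hmat : mat A = c • Cfsg.Agent.ClassicalGeometry.UnitTransv.rankOne 2 ((c⁻¹ * (a - c)) • b 0) (b 0) := by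
    apply Matrix.mulVec_injective
    funext v
    rw [Matrix.smul_mulVec, Cfsg.Agent.ClassicalGeometry.UnitTransv.rankOne_mulVec]
    have := hAv v
    rw [act_def] at this
    rw [this, smul_add, smul_smul, smul_smul]
    congr 2
    field_simp
  have hac : a = c := by
    rw [hmat, Matrix.det_smul, Cfsg.Agent.ClassicalGeometry.UnitTransv.det_rankOne, herm_smul_left, hpp,
      Fintype.card_fin] at hdet
    have h12 : c ^ 6 = 1 := by rw [show (6 : ℕ) = 3 * 2 from rfl, pow_mul, hc3, one_pow]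
    rw [h12, one_mul, mul_one] at hdet
    field_simp at hdet
    linear_combination hdet
  have h13 : E A c = ⊤ := by
    rw [eq_top_iff]
    intro v _
    rw [mem_E, hAv v, hac, sub_self, zero_mul, zero_smul, add_zero]
  rw [h13, finrank_top, finrank_fin_fun] at h5
  omega

theorem card_GU_le {k : ℕ} (hk : k ≤ 4) : ∃ o, Odd o ∧ Nat.card (GU k F 2) = 2 ^ (k * (k - 1) / 2) * o := by
  refine ⟨_, ?_, Cfsg.Agent.S0277.result hF k⟩
  interval_cases k <;> simp [Finset.prod_range_succ] <;> decide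

theorem le_nine {A : SU 6 F 2} (hA : A ^ 3 = 1) (hns : ∀ c : F, E A c ≠ ⊤) {P : Subgroup (SU 6 F 2)}
    (hP : P ≤ Subgroup.centralizer ({A} : Set (SU 6 F 2))) {m : ℕ} (hm : Nat.card ↥P = 2 ^ m) : m ≤ 9 := by
  obtain ⟨w, hw3, hw1, hw⟩ := exists_omega hF
  have hw23 : (w ^ 2) ^ 3 = 1 := by rw [← pow_mul, mul_comm, pow_mul, hw3, one_pow]
  have h12 : (1 : F) ≠ w := fun h => hw1 h.symm
  have h13 : (1 : F) ≠ w ^ 2 := by
    intro h
    apply hw1
    calc w = w * w ^ 2 := by rw [← h, mul_one]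
      _ = 1 := by rw [← hw3]; ring
  have h23 : w ≠ w ^ 2 := by
    intro h
    apply hw1
    have h0 : w ≠ 0 := ne_zero_of_cube hw3
    have : w * w = w * 1 := by rw [mul_one, ← pow_two]; exact h.symm
    exact mul_left_cancel₀ h0 this
  have hroot : ∀ a : F, a ^ 3 = 1 → a = 1 ∨ a = w ∨ a = w ^ 2 := by
    intro a ha
    have h : (a - 1) * ((a - w) * (a - w ^ 2)) = 0 := by
      linear_combination ha + (a - a ^ 2) * hw + (a - 1) * hw3
    rcases mul_eq_zero.1 h with h | h
    · exact Or.inl (sub_eq_zero.1 h)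
    · rcases mul_eq_zero.1 h with h | h
      · exact Or.inr (Or.inl (sub_eq_zero.1 h))
      · exact Or.inr (Or.inr (sub_eq_zero.1 h))
  have hle : ∀ c : F, c ^ 3 = 1 → finrank F (E A c) ≤ 4 := by
    intro c hc
    have h1 : finrank F (E A c) ≤ 6 := by
      have := Submodule.finrank_le (E A c)
      rwa [finrank_fin_fun] at this
    have h2 : finrank F (E A c) ≠ 6 := by
      intro h6
      exact hns c (Submodule.eq_top_of_finrank_eq (by rw [h6, finrank_fin_fun]))
    have h3 := not_five hF hA hc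
    omega
  have k1 := hle 1 (one_pow 3)
  have k2 := hle w hw3
  have k3 := hle (w ^ 2) hw23
  have s12 := finrank_le hF hA (a := 1) (b := w) (one_pow 3) h12
  have s13 := finrank_le hF hA (a := 1) (b := w ^ 2) (one_pow 3) h13
  have s23 := finrank_le hF hA (a := w) (b := w ^ 2) hw3 h23
  have hC : ∀ c : F, ∀ g ∈ P, ∀ v ∈ E A c, act g v ∈ E A c := fun c g hg v hv => cent_E (hP hg) hv
  obtain ⟨ρ1, hρ1⟩ := exists_rho hF (E A 1) (nondeg hF hA) rfl P (hC 1)
  obtain ⟨ρ2, hρ2⟩ := exists_rho hF (E A w) (nondeg hF hA) rfl P (hC w)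
  obtain ⟨ρ3, hρ3⟩ := exists_rho hF (E A (w ^ 2)) (nondeg hF hA) rfl P (hC (w ^ 2))
  have hinj : Function.Injective (ρ1.prod (ρ2.prod ρ3)) := by
    rw [injective_iff_map_eq_one]
    intro g hg
    have g1 : ρ1 g = 1 := congrArg Prod.fst hg
    have g2 : ρ2 g = 1 := congrArg Prod.fst (congrArg Prod.snd hg)
    have g3 : ρ3 g = 1 := congrArg Prod.snd (congrArg Prod.snd hg)
    apply Subtype.ext
    apply ext_act
    intro v
    change act (g : SU 6 F 2) v = act 1 v
    rw [act_one]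
    refine eig_induction hF hA (P := fun v => act (g : SU 6 F 2) v = v) (fun u v h1 h2 => ?_) (fun c hc v hv => ?_) v
    · rw [act_add, h1, h2]
    · rcases hroot c hc with rfl | rfl | rfl
      · exact hρ1 g g1 v hv
      · exact hρ2 g g2 v hv
      · exact hρ3 g g3 v hv
  have hd := Subgroup.card_dvd_of_injective _ hinj
  rw [hm, Nat.card_prod, Nat.card_prod] at hd
  obtain ⟨o1, ho1, e1⟩ := card_GU_le hF k1
  obtain ⟨o2, ho2, e2⟩ := card_GU_le hF k2
  obtain ⟨o3, ho3, e3⟩ := card_GU_le hF k3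
  rw [e1, e2, e3] at hd
  generalize finrank F (E A 1) = a at *
  generalize finrank F (E A w) = b at *
  generalize finrank F (E A (w ^ 2)) = c at *
  have hd' : 2 ^ m ∣ 2 ^ (a * (a - 1) / 2 + (b * (b - 1) / 2 + c * (c - 1) / 2)) * (o1 * (o2 * o3)) := by
    rw [pow_add, pow_add]
    refine hd.trans (dvd_of_eq ?_)
    ring
  have hco : Nat.Coprime (2 ^ m) (o1 * (o2 * o3)) :=
    Nat.Coprime.pow_left _ ((ho1.mul (ho2.mul ho3)).coprime_two_left)
  have h1 := hco.dvd_of_dvd_mul_right hd'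
  have h2 := (Nat.pow_dvd_pow_iff_le_right (by norm_num : 1 < 2)).1 h1
  refine h2.trans ?_
  interval_cases a <;> interval_cases b <;> interval_cases c <;> omega

end Cfsg.Agent.H647.SpF.U

namespace Cfsg.Agent.H647.SpF.U

open Cfsg Cfsg.Agent.LieClassical.HermBasic
open Cfsg.Agent.R01.Lifts Cfsg.Agent.R01.Label Cfsg.Agent.R01.Start
open Cfsg.Agent.KFacts.FiTT
open Cfsg.Agent.SporRec.GF4
open Cfsg.Agent.Fischer.Unit22 (hF)
open Cfsg.Agent.LThreeU7 (E mem_E)
open Cfsg.Agent.LThreeFi22.Coord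
open Cfsg.Agent.ClassicalGeometry.UnitAutBasic (pr pr_surjective)

universe v

variable {K : Type v} [Group K] [Finite K] {T : Set K} {d : K}
  {π : Subgroup.centralizer ({d} : Set K) →* PSU 6 F4 2}
  {lift : (Fin 6 → F4) → Subgroup.centralizer ({d} : Set K)} (B : Base K T d π lift)

include B

/-- a 2-subgroup centralizing a transposition and an element of order three commuting with it -/
theorem le_ten {x : K} (hx : x ^ 3 = 1) (hx1 : x ≠ 1) (hxd : x * d = d * x) {P : Subgroup K} {m : ℕ}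
    (hm : Nat.card ↥P = 2 ^ m) (hPd : ∀ p ∈ P, p * d = d * p) (hPx : ∀ p ∈ P, p * x = x * p) : m ≤ 10 := by
  classical
  have : Fact (Nat.Prime 2) := ⟨Nat.prime_two⟩
  have hxc : x ∈ Subgroup.centralizer ({d} : Set K) := Subgroup.mem_centralizer_singleton_iff.2 hxd
  have hPc : P ≤ Subgroup.centralizer ({d} : Set K) := fun p hp => Subgroup.mem_centralizer_singleton_iff.2 (hPd p hp)
  obtain ⟨A, hA, hA3⟩ := exists_lift_three (hF := hF) (π := π) (c := ⟨x, hxc⟩) (Subtype.ext hx)
  have hns : ∀ c : F4, E A c ≠ ⊤ := by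
    intro c hc
    apply hx1
    have h1 := eq_one_of_pr B.lab (r := 3) (by decide) (c := ⟨x, hxc⟩) (Subtype.ext hx) (by
      rw [← hA]
      exact pr_one_of_scalar hF (c := c) (fun v => mem_E.1 (hc ▸ Submodule.mem_top)))
    exact congrArg Subtype.val h1
  -- the image in `PSU`
  set f : ↥P →* PSU 6 F4 2 := π.comp (Subgroup.inclusion hPc) with hf
  have hker : Nat.card ↥f.ker ≤ 2 := by
    have h1 : ∀ g : ↥f.ker, ((g : ↥P) : K) = 1 ∨ ((g : ↥P) : K) = d := by
      intro g
      have h2 : π (Subgroup.inclusion hPc (g : ↥P)) = 1 := MonoidHom.mem_ker.1 g.2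
      rcases (B.lab.ext.ker _).1 h2 with h3 | h3
      · exact Or.inl (congrArg Subtype.val h3)
      · exact Or.inr (congrArg Subtype.val h3)
    have h2 : (Set.range (fun g : ↥f.ker => ((g : ↥P) : K))) ⊆ {1, d} := by
      rintro _ ⟨g, rfl⟩
      exact h1 g
    have h3 : Nat.card ↥f.ker = (Set.range (fun g : ↥f.ker => ((g : ↥P) : K))).ncard := by
      rw [← Set.image_univ, Set.ncard_image_of_injective _ (fun a b h => Subtype.ext (Subtype.ext h)), Set.ncard_univ]
    rw [h3]
    exact (Set.ncard_le_ncard h2 (Set.toFinite _)).trans ((Set.ncard_insert_le _ _).trans (by rw [Set.ncard_singleton]))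
  have hmul : Nat.card ↥f.range * Nat.card ↥f.ker = 2 ^ m := by
    rw [← hm, ← Subgroup.index_ker f]
    exact f.ker.index_mul_card
  obtain ⟨j, -, hj⟩ := (Nat.dvd_prime_pow Nat.prime_two).1 (Dvd.intro _ hmul)
  have hmj : m ≤ j + 1 := by
    have h1 : 2 ^ m ≤ 2 ^ (j + 1) := by
      rw [← hmul, hj, pow_succ]
      exact Nat.mul_le_mul_left _ hker
    exact (Nat.pow_le_pow_iff_right (by norm_num)).1 h1
  -- the lift to `SU`
  set R : Subgroup (SU 6 F4 2) := f.range.comap (pr 6 F4 2) with hR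
  have h2j : 2 ^ j ∣ Nat.card ↥R := by
    rw [← hj]
    exact Subgroup.card_dvd_of_surjective ((pr 6 F4 2).subgroupComap f.range)
      ((pr 6 F4 2).subgroupComap_surjective_of_surjective _ pr_surjective)
  obtain ⟨S, hS⟩ := Sylow.exists_subgroup_card_pow_prime (G := ↥R) 2 h2j
  have hS' : Nat.card ↥(S.map R.subtype) = 2 ^ j := by
    rw [Subgroup.card_map_of_injective (Subgroup.subtype_injective _), hS]
  have h9 := le_nine hF hA3 hns (P := S.map R.subtype) (by
    rintro _ ⟨g, hg, rfl⟩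
    rw [Subgroup.mem_centralizer_singleton_iff]
    have hg2 : ((g : ↥R) : SU 6 F4 2) ^ (2 ^ j) = 1 := by
      have h1 : (⟨g, hg⟩ : ↥S) ^ (2 ^ j) = 1 := by
        rw [← hS]; exact pow_card_eq_one'
      have h2 : g ^ (2 ^ j) = 1 := congrArg Subtype.val h1
      exact congrArg Subtype.val h2
    have hpr : pr 6 F4 2 (g : SU 6 F4 2) ∈ f.range := g.2
    obtain ⟨p, hp⟩ := hpr
    have hcop : Nat.Coprime (2 ^ j) 3 := Nat.Coprime.pow_left _ (by norm_num)
    refine (lift_comm hF hcop (A := A) (B := (g : SU 6 F4 2)) hg2 ?_).symm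
    rw [← hp, hA]
    have h3 : (⟨x, hxc⟩ : Subgroup.centralizer ({d} : Set K)) * Subgroup.inclusion hPc p =
        Subgroup.inclusion hPc p * ⟨x, hxc⟩ := Subtype.ext (hPx p p.2).symm
    change π _ * π _ = π _ * π _
    rw [← map_mul, ← map_mul, h3]) hS'
  omega

end Cfsg.Agent.H647.SpF.U
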